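import Cfsg.Agent.Lib.D1.Simple

/-!
# Passing a stable embedding to a composition factor

If a simple `N`-module `T` (with `P` acting trivially) embeds stably in a `kG`-module `R`, then it
embeds stably in some composition factor of `R`.
-/

set_option autoImplicit false

namespace Cfsg.Agent.Lib.D1.Comp

open scoped BigOperators
open Module Cfsg.Agent.Lib.D1.Simple

universe u v w

variable {G : Type u} [Group G] [Finite G] {k : Type*} [Field k]
variable {T : Type v} [AddCommGroup T] [Module k T] [FiniteDimensional k T]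
variable {x : G} {p : ℕ} {N : Subgroup G} {τ : Representation k N T}

/-- The operator attached to a coefficient function. -/
noncomputable def eOp {R : Type*} [AddCommGroup R] [Module k R] (f : G → k) (ρ : Representation k G R) :
    End k R :=
  haveI := Fintype.ofFinite G
  ∑ g : G, f g • ρ g

section Step

variable [CharP k p] {R : Type*} [AddCommGroup R] [Module k R]
  {ρ : Representation k G R} {ι : T →ₗ[k] R}

omit [Finite G] [FiniteDimensional k T] in
theorem range_sub_apply (W : Subrepresentation ρ) (r : ℕ) (v : W.toSubmodule) :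
    (((uu W.toRepresentation x ^ r) v : W.toSubmodule) : R) = (uu ρ x ^ r) (v : R) := by
  induction r generalizing v with
  | zero => simp
  | succ r ih =>
    rw [pow_succ', Module.End.mul_apply, pow_succ', Module.End.mul_apply]
    have h1 : ∀ w : W.toSubmodule, ((uu W.toRepresentation x w : W.toSubmodule) : R) = uu ρ x (w : R) := by
      intro w
      simp [uu, Subrepresentation.toRepresentation]
    rw [h1, ih]

/-- The step: passing to a subrepresentation or a quotient. -/
theorem step (hS : Setup (k := k) x p N) (hτ : τ.IsIrreducible)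
    (hτP : ∀ y : N, (y : G) ∈ Subgroup.zpowers x → τ y = 1) (h : StableEmb ρ x p N τ ι)
    (W : Subrepresentation ρ) :
    (∃ ι' : T →ₗ[k] W.toSubmodule, StableEmb W.toRepresentation x p N τ ι') ∨
      (∃ ι' : T →ₗ[k] R ⧸ W.toSubmodule,
        StableEmb (ρ.quotient W.toSubmodule (fun g v hv => W.apply_mem_toSubmodule g hv)) x p N τ ι') := by
  classical
  have hpp := hS.hpp
  let ρq := ρ.quotient W.toSubmodule (fun g v hv => W.apply_mem_toSubmodule g hv)
  let mk := W.toSubmodule.mkQ
  have hqx : ∀ (g : G) (v : R), ρq g (mk v) = mk (ρ g v) := fun g v => rfl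
  have hqu : ∀ (r : ℕ) (v : R), (uu ρq x ^ r) (mk v) = mk ((uu ρ x ^ r) v) := by
    intro r
    induction r with
    | zero => simp
    | succ r ih =>
      intro v
      rw [pow_succ', Module.End.mul_apply, ih, pow_succ', Module.End.mul_apply]
      simp only [uu, LinearMap.sub_apply, Module.End.one_apply, hqx, map_sub]
  by_cases hcase : ∀ t, mk (ι t) ∈ LinearMap.range (uu ρq x ^ (p - 1)) → t = 0
  · right
    refine ⟨mk ∘ₗ ι, ?_, ?_, hcase⟩
    · intro n t
      simp only [LinearMap.comp_apply, h.equiv]
      rfl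
    · intro t
      have := hqu 1 (ι t)
      simp only [pow_one] at this
      simp only [LinearMap.comp_apply]
      rw [this, h.fix, map_zero]
  · left
    push Not at hcase
    obtain ⟨t₀, ht₀, ht₀'⟩ := hcase
    -- all of `T` lands in the norms of the quotient
    let T₀ : Subrepresentation τ :=
      { toSubmodule :=
          { carrier := {t | mk (ι t) ∈ LinearMap.range (uu ρq x ^ (p - 1))}
            add_mem' := by
              intro a b ha hb
              simp only [Set.mem_setOf_eq, map_add] at ha hb ⊢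
              exact Submodule.add_mem _ ha hb
            zero_mem' := by
              change mk (ι 0) ∈ LinearMap.range (uu ρq x ^ (p - 1))
              rw [map_zero, map_zero]
              exact Submodule.zero_mem _
            smul_mem' := by
              intro c a ha
              simp only [Set.mem_setOf_eq, map_smul] at ha ⊢
              exact Submodule.smul_mem _ _ ha }
        apply_mem_toSubmodule := by
          intro n t ht
          change mk (ι (τ n t)) ∈ LinearMap.range (uu ρq x ^ (p - 1))
          rw [h.equiv, ← hqx]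
          obtain ⟨a, ha⟩ := hS.hnorm n n.2
          exact rho_mem_range_uu_pow ha _ ht }
    have hT₀ : T₀ = ⊤ := by
      rcases hτ.eq_bot_or_eq_top T₀ with h0 | h0
      · exfalso
        apply ht₀'
        have h1 : t₀ ∈ T₀.toSubmodule := ht₀
        rw [h0] at h1
        exact h1
      · exact h0
    have hall : ∀ t, ∃ r : R, ι t - (uu ρ x ^ (p - 1)) r ∈ W.toSubmodule := by
      intro t
      have h1 : t ∈ T₀.toSubmodule := by rw [hT₀]; trivial
      obtain ⟨r', hr'⟩ : mk (ι t) ∈ LinearMap.range (uu ρq x ^ (p - 1)) := h1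
      obtain ⟨r, rfl⟩ := Submodule.mkQ_surjective _ r'
      refine ⟨r, ?_⟩
      have h2 : mk ((uu ρ x ^ (p - 1)) r) = mk (ι t) := by
        rw [← hqu]
        exact hr'
      have h3 := (Submodule.Quotient.eq _).mp h2
      rw [← neg_sub]
      exact Submodule.neg_mem _ h3
    -- a linear choice
    let bT := finBasis k T
    let g₀ : T →ₗ[k] R := bT.constr k (fun i => (hall (bT i)).choose)
    have hg₀ : ∀ t, ι t - (uu ρ x ^ (p - 1)) (g₀ t) ∈ W.toSubmodule := by
      intro t
      have h1 := bT.sum_repr t
      rw [← h1]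
      simp only [map_sum, map_smul]
      rw [← Finset.sum_sub_distrib]
      apply Submodule.sum_mem
      intro i _
      have h2 : g₀ (bT i) = (hall (bT i)).choose := by
        simp [g₀, Basis.constr_basis]
      rw [h2, ← smul_sub]
      exact Submodule.smul_mem _ _ (hall (bT i)).choose_spec
    let s₀ : T →ₗ[k] R := ι - (uu ρ x ^ (p - 1)) ∘ₗ g₀
    have hs₀W : ∀ t, s₀ t ∈ W.toSubmodule := hg₀
    have hs₀u : ∀ t, uu ρ x (s₀ t) = 0 := by
      intro t
      have h1 : s₀ t = ι t - (uu ρ x ^ (p - 1)) (g₀ t) := rfl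
      rw [h1, map_sub, h.fix, ← Module.End.mul_apply, ← pow_succ', Nat.sub_add_cancel hpp.one_le,
        uu_pow_p hpp hS.hx]
      simp
    let Q : Subgroup N := (Subgroup.zpowers x).subgroupOf N
    letI : Fintype (N ⧸ Q) := Fintype.ofFinite _
    let φ : N → (T →ₗ[k] R) := fun a => (ρ (a : G)) ∘ₗ s₀ ∘ₗ τ a⁻¹
    have hφ : ∀ a, ∀ b ∈ Q, φ (a * b) = φ a := by
      intro a b hb
      have hb' : (b : G) ∈ Subgroup.zpowers x := hb
      ext t
      simp only [φ, LinearMap.comp_apply, mul_inv_rev, map_mul, Subgroup.coe_mul, Module.End.mul_apply]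
      rw [hτP b⁻¹ (Subgroup.inv_mem _ hb')]
      simp only [Module.End.one_apply]
      rw [hS.fix_of_ker (hs₀u _) hb']
    let d : k := (Fintype.card (N ⧸ Q) : k)
    have hd : d ≠ 0 := by
      have := hS.hind
      rw [Subgroup.index_eq_card, Nat.card_eq_fintype_card] at this
      exact this
    let s : T →ₗ[k] R := d⁻¹ • ∑ q : N ⧸ Q, φ q.out
    have hsφ : ∀ t, s t = d⁻¹ • ∑ q : N ⧸ Q, φ q.out t := by
      intro t
      simp [s, LinearMap.sum_apply]
    have hsW : ∀ t, s t ∈ W.toSubmodule := by
      intro t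
      rw [hsφ]
      apply Submodule.smul_mem
      apply Submodule.sum_mem
      intro q _
      exact W.apply_mem_toSubmodule _ (hs₀W _)
    have hsequiv : ∀ (n : N) (t : T), s (τ n t) = ρ (n : G) (s t) := by
      intro n t
      rw [hsφ, hsφ, map_smul, map_sum]
      congr 1
      have h1 := congrArg (fun F : T →ₗ[k] R => F (τ n t)) (qsum_mul Q φ hφ n)
      simp only [LinearMap.sum_apply] at h1
      rw [← h1]
      refine Finset.sum_congr rfl fun q _ => ?_
      simp only [φ, LinearMap.comp_apply, mul_inv_rev, map_mul, Subgroup.coe_mul, Module.End.mul_apply]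
      rw [← Module.End.mul_apply (τ n⁻¹), ← map_mul]
      simp
    have hsu : ∀ t, uu ρ x (s t) = 0 := by
      intro t
      rw [hsφ, map_smul, map_sum, Finset.sum_eq_zero, smul_zero]
      intro q _
      exact hS.ker_rho (hs₀u _) q.out.2
    have hsι : ∀ t, ι t - s t ∈ LinearMap.range (uu ρ x ^ (p - 1)) := by
      intro t
      have h1 : ι t = d⁻¹ • ∑ q : N ⧸ Q, ρ (q.out : G) (ι (τ (q.out)⁻¹ t)) := by
        have h2 : ∀ q : N ⧸ Q, ρ (q.out : G) (ι (τ (q.out)⁻¹ t)) = ι t := by
          intro q
          rw [h.equiv, ← Module.End.mul_apply, ← map_mul]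
          simp
        simp only [h2, Finset.sum_const, Finset.card_univ]
        rw [← Nat.cast_smul_eq_nsmul k, smul_smul, inv_mul_cancel₀ hd, one_smul]
      rw [h1, hsφ, ← smul_sub, ← Finset.sum_sub_distrib]
      apply Submodule.smul_mem
      apply Submodule.sum_mem
      intro q _
      simp only [φ, LinearMap.comp_apply]
      rw [← map_sub]
      obtain ⟨a, ha⟩ := hS.hnorm _ q.out.2
      apply rho_mem_range_uu_pow ha
      simp only [s₀, LinearMap.sub_apply, LinearMap.comp_apply, sub_sub_cancel]
      exact ⟨_, rfl⟩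
    refine ⟨s.codRestrict W.toSubmodule hsW, ?_, ?_, ?_⟩
    · intro n t
      apply Subtype.ext
      exact hsequiv n t
    · intro t
      apply Subtype.ext
      simpa [uu, Subrepresentation.toRepresentation, sub_eq_zero] using hsu t
    · intro t ht
      obtain ⟨v, hv⟩ := ht
      have h2 : (uu ρ x ^ (p - 1)) (v : R) = s t := by
        rw [← range_sub_apply W]
        exact congrArg Subtype.val hv
      have h3 : s t ∈ LinearMap.range (uu ρ x ^ (p - 1)) := ⟨_, h2⟩
      apply h.stable
      have := Submodule.add_mem _ (hsι t) h3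
      simpa using this

end Step

section eOp

variable {R : Type*} [AddCommGroup R] [Module k R] (f : G → k) (ρ : Representation k G R)

theorem eOp_apply [Fintype G] (v : R) : eOp f ρ v = ∑ g : G, f g • ρ g v := by
  unfold eOp
  rw [LinearMap.sum_apply]
  refine Finset.sum_congr (by convert rfl) fun g _ => ?_
  rfl

theorem eOp_comm (hcent : ∀ a g, f (a * g * a⁻¹) = f g) (h : G) : ρ h * eOp f ρ = eOp f ρ * ρ h := by
  classical
  letI := Fintype.ofFinite G
  ext v
  simp only [Module.End.mul_apply, eOp_apply, map_sum, map_smul]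
  refine (Fintype.sum_equiv (MulAut.conj h).toEquiv _ _ fun g => ?_)
  have h1 : (MulAut.conj h).toEquiv g = h * g * h⁻¹ := rfl
  rw [h1, hcent, ← Module.End.mul_apply, ← Module.End.mul_apply, ← map_mul, ← map_mul]
  congr 3
  group

theorem eOp_mul_self (hidem : ∀ g, (haveI := Fintype.ofFinite G; ∑ a : G, f a * f (a⁻¹ * g)) = f g) :
    eOp f ρ * eOp f ρ = eOp f ρ := by
  classical
  letI := Fintype.ofFinite G
  have hidem' : ∀ g, ∑ a : G, f a * f (a⁻¹ * g) = f g := by
    intro g
    rw [← hidem g]
  ext v
  simp only [Module.End.mul_apply]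
  calc eOp f ρ (eOp f ρ v) = ∑ a : G, ∑ b : G, (f a * f b) • ρ (a * b) v := by
        rw [eOp_apply, eOp_apply]
        simp only [map_sum, map_smul, Finset.smul_sum, smul_smul, map_mul, Module.End.mul_apply]
    _ = ∑ a : G, ∑ g : G, (f a * f (a⁻¹ * g)) • ρ g v := by
        refine Finset.sum_congr rfl fun a _ => ?_
        refine (Fintype.sum_equiv (Equiv.mulLeft a) _ _ fun b => ?_)
        have h2 : (Equiv.mulLeft a) b = a * b := rfl
        rw [h2, inv_mul_cancel_left]
    _ = ∑ g : G, ∑ a : G, (f a * f (a⁻¹ * g)) • ρ g v := Finset.sum_comm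
    _ = ∑ g : G, f g • ρ g v := by
        refine Finset.sum_congr rfl fun g _ => ?_
        rw [← Finset.sum_smul, hidem']
    _ = eOp f ρ v := (eOp_apply f ρ v).symm

theorem eOp_sub (W : Subrepresentation ρ) (v : W.toSubmodule) :
    ((eOp f W.toRepresentation v : W.toSubmodule) : R) = eOp f ρ (v : R) := by
  classical
  letI := Fintype.ofFinite G
  rw [eOp_apply, eOp_apply, Submodule.coe_sum]
  refine Finset.sum_congr rfl fun g _ => ?_
  rfl

theorem eOp_quot (W : Submodule k R) (h : ∀ g, W ≤ W.comap (ρ g)) (v : R) :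
    eOp f (ρ.quotient W h) (W.mkQ v) = W.mkQ (eOp f ρ v) := by
  classical
  letI := Fintype.ofFinite G
  rw [eOp_apply, eOp_apply, map_sum]
  refine Finset.sum_congr rfl fun g _ => ?_
  rw [map_smul]
  rfl

end eOp

/-- Finding a composition factor. -/
theorem exists_simple_factor [CharP k p] [Nontrivial T] (hS : Setup (k := k) x p N) (hτ : τ.IsIrreducible)
    (hτP : ∀ y : N, (y : G) ∈ Subgroup.zpowers x → τ y = 1) (f : G → k) (n : ℕ) :
    ∀ (R : Type w) [AddCommGroup R] [Module k R] [FiniteDimensional k R] (ρ : Representation k G R)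
      (ι : T →ₗ[k] R), finrank k R = n → eOp f ρ = 1 → StableEmb ρ x p N τ ι →
      ∃ (S : Type w) (_ : AddCommGroup S) (_ : Module k S) (_ : FiniteDimensional k S)
        (ρ' : Representation k G S), ρ'.IsIrreducible ∧ eOp f ρ' = 1 ∧
          ∃ ι' : T →ₗ[k] S, StableEmb ρ' x p N τ ι' := by
  induction n using Nat.strong_induction_on with
  | _ n ih =>
    intro R _ _ _ ρ ι hn he hι
    obtain ⟨t, ht⟩ := exists_ne (0 : T)
    have hnt : Nontrivial R := by
      refine ⟨ι t, 0, fun h0 => ht ?_⟩
      apply hι.stable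
      rw [h0]
      exact Submodule.zero_mem _
    by_cases hirr : ρ.IsIrreducible
    · exact ⟨R, inferInstance, inferInstance, inferInstance, ρ, hirr, he, ι, hι⟩
    · have hW : ∃ W : Subrepresentation ρ, W ≠ ⊥ ∧ W ≠ ⊤ := by
        by_contra hc
        push Not at hc
        apply hirr
        have hne : (⊥ : Subrepresentation ρ) ≠ ⊤ := by
          intro h0
          have h1 := congrArg Subrepresentation.toSubmodule h0
          have h2 : (⊥ : Submodule k R) = ⊤ := h1
          exact bot_ne_top h2
        exact { exists_pair_ne := ⟨⊥, ⊤, hne⟩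
                eq_bot_or_eq_top := fun W => by
                  by_cases h : W = ⊥
                  · exact Or.inl h
                  · exact Or.inr (hc W h) }
      obtain ⟨W, hW0, hW1⟩ := hW
      have hW0' : W.toSubmodule ≠ ⊥ := fun h0 => hW0 (Subrepresentation.toSubmodule_injective h0)
      have hW1' : W.toSubmodule ≠ ⊤ := fun h0 => hW1 (Subrepresentation.toSubmodule_injective h0)
      have hd1 : finrank k W.toSubmodule < n := by
        rw [← hn]
        exact Submodule.finrank_lt hW1'
      have hd0 : 0 < finrank k W.toSubmodule := Module.finrank_pos_iff.mpr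
        (Submodule.nontrivial_iff_ne_bot.mpr hW0')
      have hd2 : finrank k (R ⧸ W.toSubmodule) < n := by
        have := Submodule.finrank_quotient_add_finrank W.toSubmodule
        omega
      rcases step hS hτ hτP hι W with ⟨ι', h'⟩ | ⟨ι', h'⟩
      · refine ih _ hd1 W.toSubmodule W.toRepresentation ι' rfl ?_ h'
        ext v
        have h1 := eOp_sub f ρ W v
        rw [he] at h1
        exact h1
      · refine ih _ hd2 (R ⧸ W.toSubmodule) _ ι' rfl ?_ h'
        apply LinearMap.ext
        intro v
        obtain ⟨r, rfl⟩ := Submodule.mkQ_surjective _ v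
        rw [eOp_quot, he]
        rfl

section Coind

variable (τ)

/-- The coinduced module. -/
def coindSub : Submodule k (G → T) where
  carrier := {F | ∀ (n : N) (g : G), F ((n : G) * g) = τ n (F g)}
  add_mem' := by
    intro a b ha hb n g
    simp only [Pi.add_apply, ha n g, hb n g, map_add]
  zero_mem' := by
    intro n g
    simp
  smul_mem' := by
    intro c a ha n g
    simp only [Pi.smul_apply, ha n g, map_smul]

/-- The coinduced representation. -/
def coindRep : Representation k G (coindSub (G := G) τ) where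
  toFun g :=
    { toFun := fun F => ⟨fun a => F.1 (a * g), fun n a => by
        change F.1 ((n : G) * a * g) = τ n (F.1 (a * g))
        rw [mul_assoc, F.2 n (a * g)]⟩
      map_add' := fun _ _ => rfl
      map_smul' := fun _ _ => rfl }
  map_one' := by
    ext F a
    simp
  map_mul' g h := by
    ext F a
    simp [mul_assoc]

theorem coindRep_apply (g : G) (F : coindSub (G := G) τ) (a : G) :
    (coindRep τ g F).1 a = F.1 (a * g) := rfl

open Classical in
/-- The embedding of `T` into the coinduced module, supported on `N`. -/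
noncomputable def coindIota : T →ₗ[k] coindSub (G := G) τ where
  toFun t := ⟨fun g => if h : g ∈ N then τ ⟨g, h⟩ t else 0, by
    intro n g
    by_cases h : g ∈ N
    · have h1 : (n : G) * g ∈ N := N.mul_mem n.2 h
      simp only [h, h1, dite_true]
      rw [← Module.End.mul_apply, ← map_mul]
      rfl
    · have h1 : (n : G) * g ∉ N := fun hc => h (by simpa using N.mul_mem (N.inv_mem n.2) hc)
      simp [h, h1]⟩
  map_add' a b := by
    ext g
    by_cases h : g ∈ N <;> simp [h]
  map_smul' c a := by
    ext g
    by_cases h : g ∈ N <;> simp [h]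

theorem coindIota_mem (t : T) {g : G} (h : g ∈ N) : (coindIota τ t).1 g = τ ⟨g, h⟩ t := by
  simp [coindIota, h]

theorem coindIota_notMem (t : T) {g : G} (h : g ∉ N) : (coindIota τ t).1 g = 0 := by
  simp [coindIota, h]

theorem coindIota_equiv (n : N) (t : T) : coindIota τ (τ n t) = coindRep τ (n : G) (coindIota τ t) := by
  ext g
  by_cases h : g ∈ N
  · have h1 : g * (n : G) ∈ N := N.mul_mem h n.2
    rw [coindRep_apply, coindIota_mem τ _ h, coindIota_mem τ _ h1, ← Module.End.mul_apply, ← map_mul]
    rfl
  · have h1 : g * (n : G) ∉ N := fun hc => h (by simpa using N.mul_mem hc (N.inv_mem n.2))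
    rw [coindRep_apply, coindIota_notMem τ _ h, coindIota_notMem τ _ h1]

end Coind

/-- The range of a commuting operator as a subrepresentation. -/
def rangeSub {R : Type*} [AddCommGroup R] [Module k R] (ρ : Representation k G R) (E : End k R)
    (hEc : ∀ h, ρ h * E = E * ρ h) : Subrepresentation ρ where
  toSubmodule := LinearMap.range E
  apply_mem_toSubmodule := by
    rintro g _ ⟨v, rfl⟩
    refine ⟨ρ g v, ?_⟩
    have := congrArg (fun t : End k R => t v) (hEc g)
    exact this.symm

/-- From a module with an `N`-summand to a composition factor. -/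
theorem exists_simple_of_summand [CharP k p] [Nontrivial T] (hS : Setup (k := k) x p N)
    (hτ : τ.IsIrreducible) (hτP : ∀ y : N, (y : G) ∈ Subgroup.zpowers x → τ y = 1) (f : G → k)
    (hcent : ∀ a g, f (a * g * a⁻¹) = f g)
    (hidem : ∀ g, (haveI := Fintype.ofFinite G; ∑ a : G, f a * f (a⁻¹ * g)) = f g)
    {R : Type w} [AddCommGroup R] [Module k R] [FiniteDimensional k R] (ρ : Representation k G R)
    (ι₀ : T →ₗ[k] R) (π : R →ₗ[k] T) (hequiv : ∀ (n : N) t, ι₀ (τ n t) = ρ (n : G) (ι₀ t))
    (hπ : ∀ t, π (eOp f ρ (ι₀ t)) = t)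
    (hπ0 : ∀ r, π ((∑ i ∈ Finset.range p, ρ x ^ i) r) = 0) :
    ∃ (S : Type w) (_ : AddCommGroup S) (_ : Module k S) (_ : FiniteDimensional k S)
      (ρ' : Representation k G S), ρ'.IsIrreducible ∧ eOp f ρ' = 1 ∧
        ∃ ι' : T →ₗ[k] S, StableEmb ρ' x p N τ ι' := by
  classical
  have hpp := hS.hpp
  have hEE : eOp f ρ * eOp f ρ = eOp f ρ := eOp_mul_self f ρ hidem
  have hEc : ∀ h, ρ h * eOp f ρ = eOp f ρ * ρ h := eOp_comm f ρ hcent
  let W : Subrepresentation ρ := rangeSub ρ (eOp f ρ) hEc
  have hEW : ∀ v : W.toSubmodule, eOp f ρ (v : R) = v := by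
    rintro ⟨_, ⟨v, rfl⟩⟩
    have := congrArg (fun t : End k R => t v) hEE
    exact this
  have hWe : eOp (R := W.toSubmodule) f W.toRepresentation = 1 := by
    apply LinearMap.ext
    intro v
    apply Subtype.ext
    rw [eOp_sub]
    exact hEW v
  let ι₁ : T →ₗ[k] W.toSubmodule := (eOp f ρ ∘ₗ ι₀).codRestrict W.toSubmodule (fun t => ⟨ι₀ t, rfl⟩)
  have hι₁ : ∀ t, ((ι₁ t : W.toSubmodule) : R) = eOp f ρ (ι₀ t) := fun t => rfl
  have hst : StableEmb (T := T) (S := W.toSubmodule) W.toRepresentation x p N τ ι₁ := by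
    refine ⟨?_, ?_, ?_⟩
    · intro n t
      apply Subtype.ext
      rw [hι₁, hequiv]
      have := congrArg (fun t' : End k R => t' (ι₀ t)) (hEc (n : G))
      exact this.symm
    · intro t
      apply Subtype.ext
      have hxN : x ∈ N := hS.hxN
      have h1 := hequiv ⟨x, hxN⟩ t
      rw [hτP ⟨x, hxN⟩ (Subgroup.mem_zpowers x)] at h1
      have h2 : ι₀ t = ρ x (ι₀ t) := h1
      have h3 := congrArg (fun t' : End k R => t' (ι₀ t)) (hEc x)
      change ρ x (eOp f ρ (ι₀ t)) = eOp f ρ (ρ x (ι₀ t)) at h3
      rw [← h2] at h3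
      change ρ x (eOp f ρ (ι₀ t)) - eOp f ρ (ι₀ t) = 0
      rw [h3, sub_self]
    · intro t ht
      obtain ⟨r, hr⟩ := ht
      have h2 : (uu ρ x ^ (p - 1)) (r : R) = eOp f ρ (ι₀ t) := by
        rw [← range_sub_apply W]
        exact congrArg Subtype.val hr
      rw [← hπ t, ← h2, ← geom_eq hpp hS.hx]
      exact hπ0 _
  exact exists_simple_factor hS hτ hτP f _ _ W.toRepresentation ι₁ rfl hWe hst

/-- The main result of this file. -/
theorem exists_simple_of_local [CharP k p] [Nontrivial T] (hS : Setup (k := k) x p N)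
    (hτ : τ.IsIrreducible) (hτP : ∀ y : N, (y : G) ∈ Subgroup.zpowers x → τ y = 1) (f : G → k)
    (hcent : ∀ a g, f (a * g * a⁻¹) = f g)
    (hidem : ∀ g, (haveI := Fintype.ofFinite G; ∑ a : G, f a * f (a⁻¹ * g)) = f g)
    (hlocal : (haveI := Fintype.ofFinite N; ∑ a : N, f (a : G) • τ a) = 1) :
    ∃ (S : Type (max u v)) (_ : AddCommGroup S) (_ : Module k S) (_ : FiniteDimensional k S)
      (ρ' : Representation k G S), ρ'.IsIrreducible ∧ eOp f ρ' = 1 ∧
        ∃ ι' : T →ₗ[k] S, StableEmb ρ' x p N τ ι' := by
  classical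
  letI := Fintype.ofFinite G
  letI := Fintype.ofFinite N
  have hpp := hS.hpp
  let π : coindSub (G := G) τ →ₗ[k] T :=
    { toFun := fun F => F.1 1
      map_add' := fun _ _ => rfl
      map_smul' := fun _ _ => rfl }
  refine exists_simple_of_summand hS hτ hτP f hcent hidem (coindRep τ) (coindIota τ) π
    (coindIota_equiv τ) ?_ ?_
  · intro t
    have h1 : π (eOp f (coindRep τ) (coindIota τ t)) = ∑ g : G, f g • (coindIota τ t).1 g := by
      rw [eOp_apply, map_sum]
      refine Finset.sum_congr rfl fun g _ => ?_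
      rw [map_smul]
      change f g • (coindRep τ g (coindIota τ t)).1 1 = _
      rw [coindRep_apply, one_mul]
    rw [h1]
    have h3 : ∑ g : G, f g • (coindIota τ t).1 g = ∑ a : N, f (a : G) • τ a t := by
      let em : N ↪ G := ⟨Subtype.val, Subtype.val_injective⟩
      rw [← Finset.sum_subset (Finset.subset_univ (Finset.univ.map em))]
      · rw [Finset.sum_map]
        refine Finset.sum_congr rfl fun a _ => ?_
        have h5 : (coindIota τ t).1 (em a) = τ a t :=
          coindIota_mem τ t a.2
        rw [h5]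
        rfl
      · intro g _ hg
        have h6 : g ∉ N := by
          intro h7
          apply hg
          exact Finset.mem_map.mpr ⟨⟨g, h7⟩, Finset.mem_univ _, rfl⟩
        have h5 : (coindIota τ t).1 g = 0 := coindIota_notMem τ t h6
        rw [h5, smul_zero]
    rw [h3]
    have h4 := congrArg (fun z : End k T => z t) hlocal
    simpa [LinearMap.sum_apply] using h4
  · intro r
    rw [LinearMap.sum_apply, map_sum]
    have h4 : ∀ i ∈ Finset.range p, π ((coindRep τ x ^ i) r) = π r := by
      intro i _
      rw [← map_pow]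
      change (coindRep τ (x ^ i) r).1 1 = r.1 1
      rw [coindRep_apply, one_mul]
      have hxi : x ^ i ∈ N := N.pow_mem hS.hxN i
      have h5 := r.2 ⟨x ^ i, hxi⟩ 1
      rw [mul_one] at h5
      change r.1 (x ^ i) = r.1 1
      rw [h5, hτP ⟨x ^ i, hxi⟩ ⟨i, by simp⟩]
      rfl
    rw [Finset.sum_congr rfl h4, Finset.sum_const, Finset.card_range, ← Nat.cast_smul_eq_nsmul k,
      CharP.cast_eq_zero, zero_smul]

end Cfsg.Agent.Lib.D1.Comp
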