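import Cfsg.Agent.Lib.D1.CountA

/-!
# The number of modular constituents of a block of defect one

Let `P` be a subgroup of order `p`, `p ^ 2 ∤ |G|`, `θ ∈ Irr(C_G(P))` trivial on `P`, `B` the block of `G`
induced by the block of `θ`, `T` the stabilizer of `θ` in `N_G(P)`, `e = |T : C_G(P)|`.  If a finite set
`S` of irreducible characters spans the characters of `B` on `p`-regular elements, over `ℤ` up to
multipliers prime to `p`, then `e ≤ |S|`.
-/

set_option autoImplicit false

namespace Cfsg.Agent.Lib.D1.Count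

open Cfsg Module MonoidAlgebra Cfsg.Agent.Lib.D1.Res Cfsg.Agent.Lib.D1.Simple Cfsg.Agent.Lib.D1.Modl
open Cfsg.Agent.Lib.D1.Over2 Cfsg.Agent.Lib.D1.Comp Cfsg.Agent.Lib.D1.CountA Cfsg.Agent.Lib.D1.Span
open Cfsg.Agent.Lib.ExcP.Gram Cfsg.Agent.Lib.ModRep.Span
open Cfsg.Agent.Lib.Blocks.Local Cfsg.Agent.Lib.Blocks.Central Cfsg.Agent.Lib.Blocks.Induced
open Cfsg.Agent.Lib.Char.Basic Cfsg.Agent.Lib.Char.Complete
open scoped BigOperators

universe u

variable {G : Type u} [Group G] [Finite G] {p : ℕ} [hp : Fact p.Prime] {P : Subgroup G} {M : Ideal AlgInt}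

open scoped Classical in
/-- Class sums act by scalars on a simple module. -/
theorem exists_class_scalar [Fintype G] {k S : Type*} [Field k] [IsAlgClosed k] [AddCommGroup S] [Module k S]
    [FiniteDimensional k S] (ρ : Representation k G S) [ρ.IsIrreducible] :
    ∃ lam : G → k, ∀ a, ∑ h ∈ Finset.univ.filter (IsConj a), ρ h = lam a • (1 : End k S) := by
  have h : ∀ a : G, ∃ c : k, ∑ h ∈ Finset.univ.filter (IsConj a), ρ h = c • (1 : End k S) := by
    intro a
    apply exists_scalar_of_commute ρ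
    intro g
    have h1 : ρ g * (∑ h ∈ Finset.univ.filter (IsConj a), ρ h) * ρ g⁻¹ =
        ∑ h ∈ Finset.univ.filter (IsConj a), ρ h := by
      rw [Finset.mul_sum, Finset.sum_mul]
      refine Finset.sum_bij (fun h _ => g * h * g⁻¹) ?_ ?_ ?_ ?_
      · intro h hh
        rw [Finset.mem_filter] at hh ⊢
        refine ⟨Finset.mem_univ _, hh.2.trans ?_⟩
        rw [isConj_iff]
        exact ⟨g, rfl⟩
      · intro h _ h' _ hh
        exact mul_left_cancel (mul_right_cancel hh)
      · intro h hh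
        rw [Finset.mem_filter] at hh
        refine ⟨g⁻¹ * h * g, ?_, by group⟩
        rw [Finset.mem_filter]
        refine ⟨Finset.mem_univ _, hh.2.trans ?_⟩
        rw [isConj_iff]
        exact ⟨g⁻¹, by group⟩
      · intro h _
        rw [map_mul, map_mul]
    have h2 : ρ g⁻¹ * ρ g = 1 := by rw [← map_mul, inv_mul_cancel, map_one]
    calc ρ g * (∑ h ∈ Finset.univ.filter (IsConj a), ρ h)
        = ρ g * (∑ h ∈ Finset.univ.filter (IsConj a), ρ h) * (ρ g⁻¹ * ρ g) := by rw [h2, mul_one]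
      _ = (ρ g * (∑ h ∈ Finset.univ.filter (IsConj a), ρ h) * ρ g⁻¹) * ρ g := by simp only [mul_assoc]
      _ = _ := by rw [h1]
  choose lam hlam using h
  exact ⟨lam, hlam⟩

/-- Trace functions of simple modules on which the block idempotent acts as one are combinations of
reductions of the characters of the block. -/
theorem trace_mem_span [Fintype G] {V : ValuationSubring ℂ} [CharP (K V) p] (hM : IsPModular p M)
    (hV : ∀ z, MemLocalRing M z → z ∈ V) (hVn : ∀ z, MemLocalIdeal M z → z ∈ V.nonunits)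
    {B : Set (IrrCharacter G)} (hB : IsPBlock M B) {S : Type*} [AddCommGroup S] [Module (K V) S]
    [FiniteDimensional (K V) S] (ρ : Representation (K V) G S) [hρ : ρ.IsIrreducible]
    (heOp : ∑ g : G, red V (blockCoeff B g) • ρ g = 1)
    (W : Submodule (K V) (G → K V)) (hW : ∀ χ ∈ B, bar (redA V) χ ∈ W) :
    (fun g => LinearMap.trace (K V) S (ρ g)) ∈ W := by
  classical
  haveI := isPrime_of_pModular hM
  haveI := Cfsg.Agent.Lib.Char.Ortho.finite_irrCharacter (G := G)
  letI := Fintype.ofFinite (IrrCharacter G)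
  haveI : Nontrivial S := Cfsg.Agent.Lib.D1.Density.nontrivial_of_irr ρ
  obtain ⟨lam, hlam⟩ := exists_class_scalar ρ
  obtain ⟨c, hc⟩ := exists_coeffs_eig (p := p) (redA V) hM
    (fun a ha => (red_eq_zero_iff (mem_of_isIntegral a.2)).mpr
      (hVn _ ((memLocalIdeal_coe_iff (M := M)).mpr ha)))
    (fun n hn h => hn ((CharP.cast_eq_zero_iff (K V) p n).mp h))
    (fun g => LinearMap.trace (K V) S (ρ g))
    (by
      intro g h hgh
      obtain ⟨c, rfl⟩ := isConj_iff.mp hgh
      show LinearMap.trace (K V) S _ = LinearMap.trace (K V) S _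
      have h1 : ρ (c * g * c⁻¹) = ρ c * (ρ g * ρ c⁻¹) := by
        rw [map_mul ρ, map_mul ρ, mul_assoc]
      rw [h1, LinearMap.trace_mul_comm, mul_assoc, ← map_mul ρ, inv_mul_cancel, map_one ρ, mul_one])
    (fun a b hab n hb => Cfsg.Agent.Lib.ModRep.Class.trace_mul_eq ρ p hab hb)
    lam
    (fun a g => Cfsg.Agent.Lib.ModRep.Class.sum_trace_eq ρ a (lam a) (hlam a) g)
  have h1 : (fun g => LinearMap.trace (K V) S (ρ g)) =
      ∑ χ ∈ Finset.univ.filter (fun χ : IrrCharacter G => ∀ a, redA V (cc χ a) = lam a),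
        c χ • bar (redA V) χ := by
    funext g
    rw [hc g, Finset.sum_apply]
    rfl
  rw [h1]
  refine Submodule.sum_mem _ fun χ hχ => Submodule.smul_mem _ _ (hW χ ?_)
  exact mem_of_sum_eq_one hV hB ρ heOp lam hlam (Finset.mem_filter.mp hχ).2

/-- **The number of modular constituents of a block of defect one.** -/
theorem card_le (hM : IsPModular p M) (hP : Nat.card P = p) (hp2 : ¬ p ^ 2 ∣ Nat.card G)
    (θ : IrrCharacter (Cn P)) (hθP : ∀ c : Cn P, (c : G) ∈ P → (θ : Cn P → ℂ) c = (θ : Cn P → ℂ) 1)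
    {B : Set (IrrCharacter G)} (hind : IsInducedBlock M (Cn P) (blockOf M (θ : Cn P → ℂ)) B)
    (T : Subgroup G)
    (hT : ∀ g : G, g ∈ T ↔ (g ∈ Nn P ∧ ∀ c c' : Cn P, (c' : G) = g * c * g⁻¹ →
      (θ : Cn P → ℂ) c' = (θ : Cn P → ℂ) c))
    (e : ℕ) (he : (Cn P).relIndex T = e) (S : Finset (IrrCharacter G))
    (hS : ∀ χ ∈ B, ∃ (c : IrrCharacter G → ℤ) (m : ℤ), ¬ (p : ℤ) ∣ m ∧ ∀ g, ¬ p ∣ orderOf g →
      (m : ℂ) * (χ : G → ℂ) g = ∑ ψ ∈ S, (c ψ : ℂ) * (ψ : G → ℂ) g) : e ≤ S.card := by
  classical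
  letI := Fintype.ofFinite G
  haveI := isPrime_of_pModular hM
  letI : Fintype (Nn P) := Fintype.ofFinite _
  letI : Fintype (Cn P) := Fintype.ofFinite _
  letI : Fintype (Ct P) := Fintype.ofFinite _
  haveI := Cfsg.Agent.Lib.Char.Ortho.finite_irrCharacter (G := G)
  letI := Fintype.ofFinite (IrrCharacter G)
  haveI := Cfsg.Agent.Lib.Char.Ortho.finite_irrCharacter (G := Nn P)
  letI := Fintype.ofFinite (IrrCharacter (Nn P))
  obtain ⟨x, hxP, hx1⟩ : ∃ x ∈ P, x ≠ 1 := by
    have h1 : P ≠ ⊥ := by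
      rintro rfl
      rw [Subgroup.card_bot] at hP
      exact hp.out.one_lt.ne hP
    obtain ⟨x, hx⟩ := Subgroup.ne_bot_iff_exists_ne_one.mp h1
    exact ⟨x.1, x.2, fun h => hx (Subtype.ext h)⟩
  have hPx : P = Subgroup.zpowers x := eq_zpowers_of_mem hP hxP hx1
  have hx : orderOf x = p := by
    rw [← Nat.card_zpowers, ← hPx, hP]
  obtain ⟨V, hV, hVn, hVp⟩ := exists_val hM
  haveI : CharP (K V) p := charP_K hM.1 hVp
  let BB := {β : IrrCharacter (Nn P) // classInner (fun n : Ct P => (β : Nn P → ℂ) n) (tilde (θ : Cn P → ℂ)) ≠ 0}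
  have hcard : Nat.card BB = e := by
    rw [← he]
    exact card_over_normalizer hP θ.2 hT
  letI : Fintype BB := Fintype.ofFinite _
  choose m τ Sm i1 i2 i3 ρ ι hm htr hirr heOp hemb using
    fun β : BB => exists_simple_of_over (V := V) hM hV hVn hPx hx hp2 hθP hind β.1 β.2
  letI := i1
  letI := i2
  haveI := i3
  haveI := hirr
  have hSet : Setup (k := K V) x p (Nn P) := by
    rw [hPx]
    exact Cfsg.Agent.Lib.D1.Local.setup_of hx hp2
  have hIdx : ((P.subgroupOf (Nn P)).index : K V) ≠ 0 := by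
    have h0 := hSet.hind
    rwa [← hPx] at h0
  haveI : ∀ β : BB, Nonempty (Fin (m β)) := fun β => ⟨⟨0, hm β⟩⟩
  have hne : ∀ β β' : BB, β ≠ β' → ∀ φ : Sm β →ₗ[K V] Sm β',
      (∀ g, φ ∘ₗ ρ β g = ρ β' g ∘ₗ φ) → φ = 0 := by
    intro β β' hββ' φ hφ
    by_contra hφ0
    have hb := bijective_of_intertwiner (hirr β) (hirr β') φ hφ hφ0
    have h₂ := stableEmb_comp (hemb β) φ hφ hb
    have htrace := fun n => hSet.trace_eq h₂ (hemb β') n
    obtain ⟨n, hn⟩ := exists_red_ne (V := V) (L := P.subgroupOf (Nn P)) β.1.2 β'.1.2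
      (fun h => hββ' (Subtype.ext (Subtype.ext h)))
      (fun y hy => trivial_of_over θ.2 hθP β.1.2 β.2 hP y hy)
      (fun y hy => trivial_of_over θ.2 hθP β'.1.2 β'.2 hP y hy) hIdx
    apply hn
    rw [← htr, ← htr]
    exact htrace n
  let τ' : BB → G → K V := fun β g => LinearMap.trace (K V) (Sm β) (ρ β g)
  have hli : LinearIndependent (K V) τ' := by
    rw [Fintype.linearIndependent_iff]
    intro c hc i₀
    obtain ⟨a, ha⟩ := Cfsg.Agent.Lib.D1.Density.exists_dual (k := K V) ρ hne i₀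
    have h1 : ∑ β, c β * ∑ g : G, a g * τ' β g = 0 := by
      simp_rw [Finset.mul_sum]
      rw [Finset.sum_comm]
      refine Finset.sum_eq_zero fun g _ => ?_
      have h2 := congrFun hc g
      simp only [Finset.sum_apply, Pi.smul_apply, smul_eq_mul, Pi.zero_apply] at h2
      have h3 : ∑ β, c β * (a g * τ' β g) = a g * ∑ β, c β * τ' β g := by
        rw [Finset.mul_sum]
        refine Finset.sum_congr rfl fun β _ => ?_
        ring
      rw [h3, h2, mul_zero]
    simp only [τ'] at h1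
    simp only [ha] at h1
    rw [Finset.sum_eq_single i₀] at h1
    · rw [if_pos rfl, mul_one] at h1
      exact h1
    · intro j _ hj
      rw [if_neg hj, mul_zero]
    · intro h
      exact absurd (Finset.mem_univ _) h
  -- the span of the set `S`
  let W : Submodule (K V) (G → K V) :=
    Submodule.span (K V) ((S.image (bar (redA V)) : Finset (G → K V)) : Set (G → K V))
  have hW : ∀ χ ∈ B, bar (redA V) χ ∈ W := by
    intro χ hχ
    obtain ⟨c, m', hm', hc⟩ := hS χ hχ
    have hm'0 : (m' : K V) ≠ 0 := fun h => hm' ((CharP.intCast_eq_zero_iff (K V) p m').mp h)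
    have h1 : bar (redA V) χ = (m' : K V)⁻¹ • ∑ ψ ∈ S, (c ψ : K V) • bar (redA V) ψ := by
      funext g
      obtain ⟨b, a, hab, hcomm, ⟨n, hn⟩, hreg⟩ := Cfsg.Agent.Lib.Blocks.PPart.exists_pPart_y (p := p) g
      have hbp : b ^ p ^ n = 1 := by rw [← hn]; exact pow_orderOf_eq_one b
      have hg : ∀ ψ : IrrCharacter G, bar (redA V) ψ g = bar (redA V) ψ a := by
        intro ψ
        rw [← hab, hcomm.eq]
        exact bar_mul_eq (redA V) hM (fun a' ha' => (red_eq_zero_iff (mem_of_isIntegral a'.2)).mpr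
          (hVn _ ((memLocalIdeal_coe_iff (M := M)).mpr ha'))) ψ hcomm.symm hbp
      simp only [Pi.smul_apply, Finset.sum_apply, smul_eq_mul]
      rw [hg χ]
      simp_rw [hg]
      have h2 : (m' : AlgInt) * val χ a = ∑ ψ ∈ S, (c ψ : AlgInt) * val ψ a := by
        apply Subtype.ext
        push_cast
        rw [coe_val, hc a hreg]
        refine Finset.sum_congr rfl fun ψ _ => ?_
        rw [coe_val]
      have h3 := congrArg (redA V) h2
      rw [map_mul, map_intCast, map_sum] at h3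
      rw [eq_inv_mul_iff_mul_eq₀ hm'0]
      have h4 : (m' : K V) * bar (redA V) χ a = (m' : K V) * redA V (val χ a) := rfl
      rw [h4, h3]
      refine Finset.sum_congr rfl fun ψ _ => ?_
      rw [map_mul, map_intCast]
      rfl
    rw [h1]
    refine Submodule.smul_mem _ _ (Submodule.sum_mem _ fun ψ hψ => Submodule.smul_mem _ _ ?_)
    apply Submodule.subset_span
    exact Finset.mem_coe.mpr (Finset.mem_image_of_mem _ hψ)
  have hτW : ∀ β, τ' β ∈ W := by
    intro β
    exact trace_mem_span hM hV hVn hind.2.1 (ρ β) (heOp β) W hW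
  have hfin := linearIndependent_le_span' τ' hli
    ((S.image (bar (redA V)) : Finset (G → K V)) : Set (G → K V)) (by
    rw [Set.range_subset_iff]
    exact hτW)
  rw [Cardinal.mk_fintype, Nat.cast_le, ← Nat.card_eq_fintype_card, hcard] at hfin
  have hc2 : Fintype.card ((S.image (bar (redA V)) : Finset (G → K V)) : Set (G → K V)) =
      (S.image (bar (redA V))).card := by
    simp
  rw [hc2] at hfin
  exact hfin.trans Finset.card_image_le

end Cfsg.Agent.Lib.D1.Count
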