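import Cfsg.Agent.Lib.D1.Simple
import Mathlib.RingTheory.SimpleModule.Basic

/-!
# Independence of the traces of simple modules

Over an algebraically closed field, pairwise non-isomorphic simple modules of a finite group have
"dual" elements of the group algebra, by the Jacobson density theorem.
-/

set_option autoImplicit false

namespace Cfsg.Agent.Lib.D1.Density

open scoped BigOperators MonoidAlgebra
open Module Cfsg.Agent.Lib.D1.Simple

universe u v

variable {G : Type u} [Group G] [Fintype G] {k : Type*} [Field k]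

theorem asAlgebraHom_eq {V : Type*} [AddCommGroup V] [Module k V] (ρ : Representation k G V) (x : k[G]) :
    ρ.asAlgebraHom x = ∑ g : G, x.coeff g • ρ g := by
  rw [Representation.asAlgebraHom_def, MonoidAlgebra.lift_apply, Finsupp.sum_fintype]
  intro i
  simp

variable [IsAlgClosed k] {ι : Type*} [Fintype ι] [DecidableEq ι] {S : ι → Type v}
  [∀ i, AddCommGroup (S i)] [∀ i, Module k (S i)] [∀ i, FiniteDimensional k (S i)]
  (ρ : ∀ i, Representation k G (S i)) [hirr : ∀ i, (ρ i).IsIrreducible]

theorem nontrivial_of_irr {V : Type*} [AddCommGroup V] [Module k V] (σ : Representation k G V)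
    [hσ : σ.IsIrreducible] : Nontrivial V := by
  by_contra hn
  rw [not_nontrivial_iff_subsingleton] at hn
  have h1 : (⊥ : Subrepresentation σ) = ⊤ := by
    apply Subrepresentation.toSubmodule_injective
    exact Subsingleton.elim _ _
  exact hσ.toNontrivial.exists_pair_ne.elim fun a hb => hb.elim fun b hab =>
    hab ((eq_bot_of_bot_eq_top h1 a).trans (eq_bot_of_bot_eq_top h1 b).symm)

omit [IsAlgClosed k] in
/-- There is an endomorphism of trace one. -/
theorem exists_trace_one {V : Type*} [AddCommGroup V] [Module k V] [FiniteDimensional k V]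
    [Nontrivial V] : ∃ φ : End k V, LinearMap.trace k V φ = 1 := by
  obtain ⟨v, hv⟩ := exists_ne (0 : V)
  have hnot : v ∉ (⊥ : Submodule k V) := by simpa using hv
  obtain ⟨ℓ, hℓ, -⟩ := Submodule.exists_le_ker_of_notMem hnot
  refine ⟨dualTensorHom k V V ((ℓ v)⁻¹ • ℓ ⊗ₜ[k] v), ?_⟩
  rw [LinearMap.trace_eq_contract_apply, map_smul, contractLeft_apply]
  simp [hℓ]

/-- The dual family. -/
theorem exists_dual (hne : ∀ i j, i ≠ j → ∀ φ : S i →ₗ[k] S j,
      (∀ g, φ ∘ₗ ρ i g = ρ j g ∘ₗ φ) → φ = 0) (i₀ : ι) :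
    ∃ a : G → k, ∀ j, ∑ g : G, a g * LinearMap.trace k (S j) (ρ j g) = if j = i₀ then 1 else 0 := by
  classical
  let R := k[G]
  let M := ∀ i, (ρ i).asModule
  haveI : Nontrivial (S i₀) := nontrivial_of_irr (ρ i₀)
  obtain ⟨φ₀, hφ₀⟩ := exists_trace_one (k := k) (V := S i₀)
  -- components of `R`-endomorphisms
  have hcomp : ∀ {i j : ι} (ψ : (ρ j).asModule →ₗ[R] (ρ i).asModule), ∃ φ : S j →ₗ[k] S i,
      (∀ v, φ v = (ρ i).asModuleEquiv (ψ ((ρ j).asModuleEquiv.symm v))) ∧
        ∀ g, φ ∘ₗ ρ j g = ρ i g ∘ₗ φ := by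
    intro i j ψ
    refine ⟨(ρ i).asModuleEquiv.toLinearMap ∘ₗ (ψ.restrictScalars k) ∘ₗ
      (ρ j).asModuleEquiv.symm.toLinearMap, fun v => rfl, ?_⟩
    intro g
    ext v
    simp only [LinearMap.comp_apply, LinearEquiv.coe_coe, LinearMap.restrictScalars_apply]
    rw [Representation.asModuleEquiv_symm_map_rho, map_smul, Representation.asModuleEquiv_map_smul]
    simp
  have hzero : ∀ {i j : ι}, i ≠ j → ∀ ψ : (ρ j).asModule →ₗ[R] (ρ i).asModule, ψ = 0 := by
    intro i j hij ψ
    obtain ⟨φ, hφ, hφ2⟩ := hcomp ψ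
    have h1 := hne j i (Ne.symm hij) φ hφ2
    ext x
    have h2 := hφ ((ρ j).asModuleEquiv x)
    rw [h1, LinearEquiv.symm_apply_apply] at h2
    simpa using h2.symm
  have hscal : ∀ {i : ι} (ψ : (ρ i).asModule →ₗ[R] (ρ i).asModule), ∃ c : k, ∀ x,
      ψ x = (algebraMap k R c) • x := by
    intro i ψ
    obtain ⟨φ, hφ, hφ2⟩ := hcomp ψ
    obtain ⟨c, hc⟩ := exists_scalar_of_commute (ρ i) φ (fun g => by
      ext v
      have := congrArg (fun t : S i →ₗ[k] S i => t v) (hφ2 g)
      exact this.symm)
    refine ⟨c, fun x => ?_⟩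
    have h1 := hφ ((ρ i).asModuleEquiv x)
    rw [hc, LinearEquiv.symm_apply_apply] at h1
    apply (ρ i).asModuleEquiv.injective
    rw [← h1, Representation.asModuleEquiv_map_smul, AlgHom.commutes]
    simp
  -- the map
  let E := (ρ i₀).asModuleEquiv
  let y : M → (ρ i₀).asModule := fun m => E.symm (φ₀ (E (m i₀)))
  have hyadd : ∀ a b, y (a + b) = y a + y b := by
    intro a b
    change E.symm (φ₀ (E (a i₀ + b i₀))) = _
    simp only [y, map_add]
  have hsingle : ∀ (g : End R M) (i : ι) (v : (ρ i₀).asModule), i ≠ i₀ →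
      (g (Pi.single i₀ v)) i = 0 := by
    intro g i v hi
    have h1 := hzero (j := i₀) hi ((LinearMap.proj i) ∘ₗ g ∘ₗ (LinearMap.single R (fun i => (ρ i).asModule) i₀))
    have h2 := congrArg (fun t => t v) h1
    exact h2
  let F : End (End R M) M :=
    { toFun := fun m => Pi.single i₀ (y m)
      map_add' := by
        intro a b
        rw [hyadd, Pi.single_add]
      map_smul' := by
        intro g m
        change Pi.single i₀ (y (g m)) = g (Pi.single i₀ (y m))
        obtain ⟨c, hc⟩ := hscal ((LinearMap.proj i₀) ∘ₗ g ∘ₗ (LinearMap.single R (fun i => (ρ i).asModule) i₀))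
        have hc' : ∀ v, (g (Pi.single i₀ v)) i₀ = (algebraMap k R c) • v := fun v => hc v
        have h1 : (g m) i₀ = (algebraMap k R c) • m i₀ := by
          have h2 : m = ∑ i, Pi.single i (m i) := (Finset.univ_sum_single m).symm
          conv_lhs => rw [h2]
          rw [map_sum, Finset.sum_apply, Finset.sum_eq_single i₀]
          · exact hc' _
          · intro i _ hi
            have h3 := hzero (j := i) (Ne.symm hi) ((LinearMap.proj i₀) ∘ₗ g ∘ₗ (LinearMap.single R (fun i => (ρ i).asModule) i))
            have h4 := congrArg (fun t => t (m i)) h3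
            exact h4
          · simp
        have h5 : ∀ v : (ρ i₀).asModule, E ((algebraMap k R c) • v) = c • E v := by
          intro v
          change (ρ i₀).asModuleEquiv _ = _
          rw [Representation.asModuleEquiv_map_smul, AlgHom.commutes]
          rfl
        have h6 : y (g m) = (algebraMap k R c) • y m := by
          apply E.injective
          simp only [y]
          rw [h5, LinearEquiv.apply_symm_apply, LinearEquiv.apply_symm_apply, h1, h5, map_smul]
        funext i
        by_cases hi : i = i₀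
        · subst hi
          rw [hc', h6]
          exact Pi.single_eq_same (M := fun i => (ρ i).asModule) i _
        · rw [hsingle g i _ hi]
          exact Pi.single_eq_of_ne (M := fun i => (ρ i).asModule) hi _ }
  have hFa : ∀ m, F m = Pi.single i₀ (y m) := fun m => rfl
  -- the finite set
  let b : ∀ i, Basis (Fin (finrank k (S i))) k (S i) := fun i => finBasis k (S i)
  let s : Finset M := Finset.univ.biUnion fun i => Finset.univ.image fun j =>
    Pi.single i ((ρ i).asModuleEquiv.symm (b i j))
  obtain ⟨r, hr⟩ := jacobson_density F s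
  have hrs : ∀ (i : ι) (j : Fin (finrank k (S i))),
      (ρ i).asAlgebraHom r (b i j) = (ρ i).asModuleEquiv
        ((F (Pi.single i ((ρ i).asModuleEquiv.symm (b i j)))) i) := by
    intro i j
    have hm : (Pi.single i ((ρ i).asModuleEquiv.symm (b i j)) : M) ∈ s :=
      Finset.mem_biUnion.mpr ⟨i, Finset.mem_univ _, Finset.mem_image.mpr ⟨j, Finset.mem_univ _, rfl⟩⟩
    rw [hr _ hm]
    have h1 : (r • (Pi.single i ((ρ i).asModuleEquiv.symm (b i j)) : M)) i =
        r • (ρ i).asModuleEquiv.symm (b i j) := by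
      change r • (Pi.single i ((ρ i).asModuleEquiv.symm (b i j)) : M) i = _
      congr 1
      exact Pi.single_eq_same (M := fun i => (ρ i).asModule) i _
    rw [h1, Representation.asModuleEquiv_map_smul, LinearEquiv.apply_symm_apply]
  have hA0 : ∀ i, i ≠ i₀ → (ρ i).asAlgebraHom r = 0 := by
    intro i hi
    apply (b i).ext
    intro j
    rw [hrs]
    have h1 : (F (Pi.single i ((ρ i).asModuleEquiv.symm (b i j)))) i = 0 :=
      Pi.single_eq_of_ne (M := fun i => (ρ i).asModule) hi _
    rw [h1, map_zero]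
    rfl
  have hA1 : (ρ i₀).asAlgebraHom r = φ₀ := by
    apply (b i₀).ext
    intro j
    rw [hrs]
    have h1 : (F (Pi.single i₀ ((ρ i₀).asModuleEquiv.symm (b i₀ j)))) i₀ =
        y (Pi.single i₀ ((ρ i₀).asModuleEquiv.symm (b i₀ j))) :=
      Pi.single_eq_same (M := fun i => (ρ i).asModule) i₀ _
    rw [h1]
    change E (E.symm (φ₀ (E ((Pi.single i₀ (E.symm (b i₀ j)) : M) i₀)))) = _
    have h2 : (Pi.single i₀ (E.symm (b i₀ j)) : M) i₀ = E.symm (b i₀ j) :=
      Pi.single_eq_same (M := fun i => (ρ i).asModule) i₀ _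
    rw [h2, LinearEquiv.apply_symm_apply, LinearEquiv.apply_symm_apply]
  refine ⟨fun g => r.coeff g, fun j => ?_⟩
  have h1 : ∑ g : G, r.coeff g * LinearMap.trace k (S j) (ρ j g) =
      LinearMap.trace k (S j) ((ρ j).asAlgebraHom r) := by
    rw [asAlgebraHom_eq, map_sum]
    refine Finset.sum_congr rfl fun g _ => ?_
    rw [map_smul, smul_eq_mul]
  rw [h1]
  by_cases hj : j = i₀
  · subst hj
    rw [hA1, hφ₀, if_pos rfl]
  · rw [hA0 j hj, map_zero, if_neg hj]

end Cfsg.Agent.Lib.D1.Density
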