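import Cfsg.Agent.Lib.D1.Over
import Cfsg.Agent.Lib.ExcP.Gram

/-!
# Characters of the normalizer over a character of the centralizer
-/

set_option autoImplicit false

namespace Cfsg.Agent.Lib.D1.Over2

open Cfsg Cfsg.Agent.Lib.ExcP.Gram Cfsg.Agent.Lib.D1.Over
open Cfsg.Agent.Lib.Char.Basic Cfsg.Agent.Lib.Char.Ortho Cfsg.Agent.Lib.Char.Complete
open Cfsg.Agent.Lib.Char.Conj Cfsg.Agent.Lib.Char.CliffordCorr Cfsg.Agent.Lib.Char.Clifford

universe u

variable {G : Type u} [Group G] {P : Subgroup G}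

/-- The centralizer as a subgroup of the normalizer. -/
abbrev Ct (P : Subgroup G) : Subgroup (Nn P) := (Cn P).subgroupOf (Nn P)

theorem Cn_le_Nn (P : Subgroup G) : Cn P ≤ Nn P := Subgroup.centralizer_le_normalizer _

theorem Ct_normal (P : Subgroup G) : (Ct P).Normal := by
  constructor
  intro c hc n
  rw [Subgroup.mem_subgroupOf] at hc ⊢
  have h1 : (n : G)⁻¹ ∈ Nn P := (Nn P).inv_mem n.2
  have h2 := conj_mem_centralizer P h1 hc
  simpa using h2

/-- The isomorphism of the two copies of the centralizer. -/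
noncomputable def ctEquiv (P : Subgroup G) : Ct P ≃* Cn P := Subgroup.subgroupOfEquivOfLe (Cn_le_Nn P)

@[simp] theorem coe_ctEquiv (c : Ct P) : ((ctEquiv P c : Cn P) : G) = ((c : Nn P) : G) := rfl

/-- The transported function. -/
noncomputable def tilde (θ : Cn P → ℂ) : Ct P → ℂ := θ ∘ ctEquiv P

theorem tilde_apply (θ : Cn P → ℂ) (c : Ct P) (h) : tilde θ c = θ ⟨((c : Nn P) : G), h⟩ := rfl

theorem isIrr_tilde {θ : Cn P → ℂ} (hθ : IsIrrCharacter (Cn P) θ) : IsIrrCharacter (Ct P) (tilde θ) :=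
  isIrrCharacter_comp_mulEquiv (ctEquiv P) hθ

theorem conjOn_tilde (θ : Cn P → ℂ) (g : Nn P) (c : Ct P) (h) :
    conjOn (Ct_normal P) g (tilde θ) c = θ ⟨(g : G) * ((c : Nn P) : G) * (g : G)⁻¹, h⟩ := rfl

variable [Finite G] {p : ℕ} [hp : Fact p.Prime]

/-- `N / C` embeds in a cyclic group. -/
theorem isCyclic_quot (hP : Nat.card P = p) (I : Subgroup (Nn P)) (K : Subgroup I) [K.Normal]
    (hK : K = (Ct P).subgroupOf I) : IsCyclic (I ⧸ K) := by
  classical
  subst hP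
  haveI : Fact (Nat.card P).Prime := hp
  haveI : IsCyclic P := isCyclic_of_prime_card rfl
  haveI : Finite (ZMod (Nat.card P)) := inferInstance
  let α : Nn P →* (ZMod (Nat.card P))ˣ :=
    (IsCyclic.mulAutMulEquiv P).toMonoidHom.comp P.normalizerMonoidHom
  have hker : α.ker = Ct P := by
    have h0 : Ct P = P.normalizerMonoidHom.ker := P.normalizerMonoidHom_ker.symm
    rw [h0]
    ext n
    simp [α, MonoidHom.mem_ker]
  let β : I →* (ZMod (Nat.card P))ˣ := α.comp I.subtype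
  have hβ : β.ker = K := by
    rw [hK, ← hker]
    ext n
    simp [β, MonoidHom.mem_ker, Subgroup.mem_subgroupOf]
  subst hβ
  exact isCyclic_of_injective (QuotientGroup.kerLift β) (QuotientGroup.kerLift_injective β)

variable {θ : Cn P → ℂ} {T : Subgroup G}

/-- The inertia group. -/
theorem inertia_eq (hT : ∀ g : G, g ∈ T ↔ (g ∈ Nn P ∧ ∀ c c' : Cn P, (c' : G) = g * c * g⁻¹ → θ c' = θ c)) :
    inertia (Ct_normal P) (tilde θ) = T.subgroupOf (Nn P) := by
  ext g
  rw [mem_inertia, Subgroup.mem_subgroupOf, hT]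
  constructor
  · intro h
    refine ⟨g.2, fun c c' hc' => ?_⟩
    have hc1 : (⟨c, Cn_le_Nn P c.2⟩ : Nn P) ∈ Ct P := c.2
    have h1 := congrFun h ⟨⟨c, Cn_le_Nn P c.2⟩, hc1⟩
    rw [conjOn_tilde θ g _ (by rw [← hc']; exact c'.2)] at h1
    have e : (⟨(g : G) * ((⟨c, Cn_le_Nn P c.2⟩ : Nn P) : G) * (g : G)⁻¹, by rw [← hc']; exact c'.2⟩ : Cn P) = c' :=
      Subtype.ext hc'.symm
    rw [e] at h1
    exact h1
  · rintro ⟨-, h⟩
    funext c
    have hc : ((c : Nn P) : G) ∈ Cn P := c.2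
    have hc' : (g : G) * ((c : Nn P) : G) * (g : G)⁻¹ ∈ Cn P := by
      have h1 := (Ct_normal P).conj_mem c c.2 g
      exact h1
    rw [conjOn_tilde θ g c hc']
    exact h ⟨_, hc⟩ ⟨_, hc'⟩ rfl

/-- The number of irreducible characters of the normalizer over `θ`. -/
theorem card_over_normalizer [Fintype (Nn P)] [Fintype (Ct P)] (hP : Nat.card P = p) (hθ : IsIrrCharacter (Cn P) θ)
    (hT : ∀ g : G, g ∈ T ↔ (g ∈ Nn P ∧ ∀ c c' : Cn P, (c' : G) = g * c * g⁻¹ → θ c' = θ c)) :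
    Nat.card {β : IrrCharacter (Nn P) // classInner (fun n : Ct P => (β : Nn P → ℂ) n) (tilde θ) ≠ 0} =
      (Cn P).relIndex T := by
  classical
  have hθt := isIrr_tilde hθ
  have hI := inertia_eq hT
  haveI : ((Ct P).subgroupOf (inertia (Ct_normal P) (tilde θ))).Normal := (Ct_normal P).subgroupOf _
  have hcyc : IsCyclic (inertia (Ct_normal P) (tilde θ) ⧸ (Ct P).subgroupOf (inertia (Ct_normal P) (tilde θ))) :=
    isCyclic_quot hP _ _ rfl
  rw [card_over (Ct_normal P) hθt hcyc, hI]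
  have hTN : T ≤ Nn P := fun g hg => ((hT g).mp hg).1
  exact Subgroup.relIndex_subgroupOf hTN

/-- Characters over `θ` are trivial on `P`, if `θ` is. -/
theorem trivial_of_over [Fintype (Ct P)] (hθ : IsIrrCharacter (Cn P) θ) (hθP : ∀ c : Cn P, (c : G) ∈ P → θ c = θ 1)
    {β : Nn P → ℂ} (hβ : IsIrrCharacter (Nn P) β)
    (hcon : classInner (fun n : Ct P => β n) (tilde θ) ≠ 0) (hP : Nat.card P = p) :
    ∀ y : Nn P, (y : G) ∈ P → β y = β 1 := by
  classical
  letI : Fintype (Nn P) := Fintype.ofFinite _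
  intro y hy
  have hyC : y ∈ Ct P := le_centralizer hP hy
  have hcl := clifford_restrict (Ct_normal P) hβ (isIrr_tilde hθ) hcon
  have h1 := congrFun hcl ⟨y, hyC⟩
  have h2 := congrFun hcl 1
  simp only [Pi.smul_apply, Finset.sum_apply, smul_eq_mul, OneMemClass.coe_one] at h1 h2
  rw [h1, h2]
  congr 1
  refine Finset.sum_congr rfl fun ψ hψ => ?_
  obtain ⟨g, rfl⟩ := (mem_orbitFinset (Ct_normal P) _ ψ).mp hψ
  have hgy : (g : G) * (y : G) * (g : G)⁻¹ ∈ P := (Subgroup.mem_set_normalizer_iff.mp g.2 y).mp hy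
  have hgyC : (g : G) * (y : G) * (g : G)⁻¹ ∈ Cn P := le_centralizer hP hgy
  have e1 : conjOn (Ct_normal P) g (tilde θ) ⟨y, hyC⟩ = θ ⟨(g : G) * (y : G) * (g : G)⁻¹, hgyC⟩ := rfl
  rw [e1, hθP _ hgy]
  simp only [conjOn_apply, tilde, Function.comp_apply]
  congr 1
  apply Subtype.ext
  simp

end Cfsg.Agent.Lib.D1.Over2
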