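import Cfsg.Agent.Lib.D1.Span
import Cfsg.Agent.Lib.D1.Over2
import Cfsg.Agent.Lib.D1.Density
import Cfsg.Agent.Lib.BlockT.Normal
import Cfsg.Agent.Lib.Blocks.Weak
import Cfsg.Agent.Lib.Blocks.Induced

/-!
# Simple modules attached to characters of the normalizer over `θ`
-/

set_option autoImplicit false

namespace Cfsg.Agent.Lib.D1.CountA

open Cfsg Module MonoidAlgebra Cfsg.Agent.Lib.D1.Res Cfsg.Agent.Lib.D1.Simple Cfsg.Agent.Lib.D1.Modl
open Cfsg.Agent.Lib.D1.Over2 Cfsg.Agent.Lib.D1.Comp Cfsg.Agent.Lib.ExcP.Gram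
open Cfsg.Agent.Lib.Blocks.Local Cfsg.Agent.Lib.Blocks.Central Cfsg.Agent.Lib.Blocks.Induced
open Cfsg.Agent.Lib.Char.Basic Cfsg.Agent.Lib.Char.Complete
open scoped BigOperators

universe u

variable {G : Type u} [Group G] {p : ℕ} [hp : Fact p.Prime] {P : Subgroup G}

/-- Elements of the normalizer outside the centralizer: `a` and `a u` are conjugate under `P`. -/
theorem exists_conj_eq_mul [Finite G] (hP : Nat.card P = p) {a : G} (haN : a ∈ Nn P) (haC : a ∉ Cn P)
    {u : G} (hu : u ∈ P) : ∃ v ∈ P, v * a * v⁻¹ = a * u := by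
  have hmem : ∀ v : P, a⁻¹ * (v : G) * a * (v : G)⁻¹ ∈ P := by
    intro v
    have h1 : a⁻¹ ∈ Nn P := (Nn P).inv_mem haN
    have h2 := (Subgroup.mem_set_normalizer_iff.mp h1 v).mp v.2
    rw [inv_inv] at h2
    exact P.mul_mem h2 (P.inv_mem v.2)
  let φ : P → P := fun v => ⟨a⁻¹ * (v : G) * a * (v : G)⁻¹, hmem v⟩
  have hinj : Function.Injective φ := by
    intro v w hvw
    have h1 : a⁻¹ * (v : G) * a * (v : G)⁻¹ = a⁻¹ * (w : G) * a * (w : G)⁻¹ := congrArg Subtype.val hvw
    have h2 : (v : G) * a * (v : G)⁻¹ = (w : G) * a * (w : G)⁻¹ := by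
      have h3 := congrArg (fun y => a * y) h1
      simpa [mul_assoc] using h3
    set t : G := (w : G)⁻¹ * (v : G) with ht
    have htP : t ∈ P := P.mul_mem (P.inv_mem w.2) v.2
    have hta : t * a = a * t := by
      have h3 : t * a * t⁻¹ = a := by
        rw [ht]
        calc (w : G)⁻¹ * (v : G) * a * ((w : G)⁻¹ * (v : G))⁻¹
            = (w : G)⁻¹ * ((v : G) * a * (v : G)⁻¹) * (w : G) := by group
          _ = (w : G)⁻¹ * ((w : G) * a * (w : G)⁻¹) * (w : G) := by rw [h2]
          _ = a := by group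
      calc t * a = t * a * t⁻¹ * t := by group
        _ = a * t := by rw [h3]
    by_cases ht1 : t = 1
    · have h3 : (v : G) = w := by
        rw [ht, inv_mul_eq_one] at ht1
        exact ht1.symm
      exact Subtype.ext h3
    · exfalso
      apply haC
      rw [Subgroup.mem_centralizer_iff]
      intro y hy
      rw [eq_zpowers_of_mem hP htP ht1] at hy
      obtain ⟨n, rfl⟩ := Subgroup.mem_zpowers_iff.mp hy
      exact ((show Commute t a from hta).zpow_left n).eq
  obtain ⟨v, hv⟩ := (Finite.injective_iff_surjective.mp hinj) ⟨u, hu⟩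
  refine ⟨v, v.2, ?_⟩
  have h1 : a⁻¹ * (v : G) * a * (v : G)⁻¹ = u := congrArg Subtype.val hv
  calc (v : G) * a * (v : G)⁻¹ = a * (a⁻¹ * (v : G) * a * (v : G)⁻¹) := by group
    _ = a * u := by rw [h1]

/-- The sum over elements outside the centralizer vanishes. -/
theorem sum_outside_eq_zero [Finite G] {k A : Type*} [Field k] [CharP k p] [AddCommGroup A] [Module k A]
    (hP : Nat.card P = p) [Fintype (Nn P)] (F : Nn P → A)
    (hF : ∀ a : Nn P, (a : G) ∉ Cn P → ∀ u : Nn P, (u : G) ∈ P → F (a * u) = F a) :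
    ∑ a : Nn P, (open Classical in if (a : G) ∈ Cn P then 0 else F a) = 0 := by
  classical
  let Q : Subgroup (Nn P) := P.subgroupOf (Nn P)
  letI : Fintype Q := Fintype.ofFinite _
  letI : Fintype (Nn P ⧸ Q) := Fintype.ofFinite _
  have hQ : Nat.card Q = p := by
    have h1 : Nat.card Q = Nat.card P :=
      Nat.card_congr (Subgroup.subgroupOfEquivOfLe Subgroup.le_normalizer).toEquiv
    rw [h1, hP]
  rw [Cfsg.Agent.Lib.ModRep.Count.sum_cosets Q]
  refine Finset.sum_eq_zero fun c _ => ?_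
  have h1 : ∀ u : Q, (if (((c.out * (u : Nn P) : Nn P)) : G) ∈ Cn P then 0 else F (c.out * (u : Nn P))) =
      (if ((c.out : Nn P) : G) ∈ Cn P then 0 else F c.out) := by
    intro u
    have huP : (((u : Nn P)) : G) ∈ P := u.2
    have huC : (((u : Nn P)) : G) ∈ Cn P := le_centralizer hP huP
    have hiff : (((c.out * (u : Nn P) : Nn P)) : G) ∈ Cn P ↔ ((c.out : Nn P) : G) ∈ Cn P := by
      rw [Subgroup.coe_mul]
      exact Subgroup.mul_mem_cancel_right _ huC
    by_cases hc : ((c.out : Nn P) : G) ∈ Cn P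
    · rw [if_pos hc, if_pos (hiff.mpr hc)]
    · rw [if_neg hc, if_neg (fun h => hc (hiff.mp h))]
      exact hF _ hc _ huP
  rw [Finset.sum_congr rfl (fun u _ => h1 u), Finset.sum_const, Finset.card_univ,
    ← Nat.card_eq_fintype_card, hQ, ← Nat.cast_smul_eq_nsmul k, CharP.cast_eq_zero, zero_smul]

/-- The sum of products of block coefficients. -/
theorem sum_blockCoeff_mul [Fintype G] (B : Set (IrrCharacter G)) (g : G) :
    ∑ a : G, blockCoeff B a * blockCoeff B (a⁻¹ * g) = blockCoeff B g := by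
  classical
  haveI := Cfsg.Agent.Lib.Char.Ortho.finite_irrCharacter (G := G)
  letI := Fintype.ofFinite (IrrCharacter G)
  have h1 := congrArg (fun z : Subalgebra.center ℂ (GA G) => (z : GA G).coeff g)
    (Cfsg.Agent.Lib.Blocks.Weak.idem_mul_self B)
  simp only [Subalgebra.coe_mul, coeff_mul_sum, coeff_idem] at h1
  exact h1

section Main

variable [Finite G] {M : Ideal AlgInt} {V : ValuationSubring ℂ} {x : G}

/-- The simple module attached to a character of the normalizer over `θ`. -/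
theorem exists_simple_of_over (hM : IsPModular p M) (hV : ∀ z, MemLocalRing M z → z ∈ V)
    (hVn : ∀ z, MemLocalIdeal M z → z ∈ V.nonunits) [CharP (K V) p] (hPx : P = Subgroup.zpowers x)
    (hx : orderOf x = p) (hp2 : ¬ p ^ 2 ∣ Nat.card G) [Fintype (Nn P)] [Fintype (Cn P)]
    [Fintype (Ct P)] {θ : IrrCharacter (Cn P)}
    (hθP : ∀ c : Cn P, (c : G) ∈ P → (θ : Cn P → ℂ) c = (θ : Cn P → ℂ) 1)
    {B : Set (IrrCharacter G)} (hind : IsInducedBlock M (Cn P) (blockOf M (θ : Cn P → ℂ)) B)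
    (β : IrrCharacter (Nn P))
    (hcon : classInner (fun n : Ct P => (β : Nn P → ℂ) n) (tilde (θ : Cn P → ℂ)) ≠ 0) :
    ∃ (m : ℕ) (τ : Representation (K V) (Nn P) (Fin m → K V)) (S : Type u)
      (_ : AddCommGroup S) (_ : Module (K V) S) (_ : FiniteDimensional (K V) S)
      (ρ' : Representation (K V) G S) (ι' : (Fin m → K V) →ₗ[K V] S), 0 < m ∧
        (∀ n, LinearMap.trace (K V) (Fin m → K V) (τ n) = red V ((β : Nn P → ℂ) n)) ∧
        ρ'.IsIrreducible ∧ eOp (fun g => red V (blockCoeff B g)) ρ' = 1 ∧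
        StableEmb ρ' x p (Nn P) τ ι' := by
  classical
  letI := Fintype.ofFinite G
  haveI := isPrime_of_pModular hM
  haveI := Cfsg.Agent.Lib.Char.Ortho.finite_irrCharacter (G := G)
  letI := Fintype.ofFinite (IrrCharacter G)
  haveI := Cfsg.Agent.Lib.Char.Ortho.finite_irrCharacter (G := Cn P)
  letI := Fintype.ofFinite (IrrCharacter (Cn P))
  have hP : Nat.card P = p := by rw [hPx, Nat.card_zpowers, hx]
  have hS : Setup (k := K V) x p (Nn P) := by
    rw [hPx]
    exact Cfsg.Agent.Lib.D1.Local.setup_of hx hp2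
  have hβP := trivial_of_over θ.2 hθP β.2 hcon hP
  obtain ⟨m, τ, hm, hτ, htr, hτL, hsum⟩ := exists_reduced (V := V) (L := P.subgroupOf (Nn P)) β.2
    (fun y hy => hβP y hy) (by
      have h0 := hS.hind
      rwa [← hPx] at h0)
  haveI : Nonempty (Fin m) := ⟨⟨0, hm⟩⟩
  have hB := hind.2.1
  have hb : ∀ g, blockCoeff B g ∈ V := fun g => hV _ (memLocalRing_blockCoeff hB g)
  have hτP : ∀ y : Nn P, (y : G) ∈ Subgroup.zpowers x → τ y = 1 := fun y hy =>
    hτL y (Subgroup.mem_subgroupOf.mpr (hPx ▸ hy))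
  let f : G → K V := fun g => red V (blockCoeff B g)
  have hcent : ∀ a g, f (a * g * a⁻¹) = f g := by
    intro a g
    simp only [f]
    rw [blockCoeff_conj_invariant]
  have hidem : ∀ g, (∑ a : G, f a * f (a⁻¹ * g)) = f g := by
    intro g
    have h1 := congrArg (red V) (sum_blockCoeff_mul B g)
    rw [red_sum _ _ (fun a _ => V.mul_mem _ _ (hb _) (hb _))] at h1
    simp only [f]
    rw [← h1]
    refine Finset.sum_congr rfl fun a _ => ?_
    rw [red_mul (hb _) (hb _)]
  -- the local computation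
  let c : Nn P → ℂ := fun a => if (a : G) ∈ Cn P then blockCoeff B a else 0
  let κ : ℂ := indHom (Cn P) θ (idem B)
  have hc : ∀ a, c a ∈ V := by
    intro a
    simp only [c]
    split_ifs
    · exact hb _
    · exact V.zero_mem
  have hcl : ∀ a g, c (a * g * a⁻¹) = c g := by
    intro a g
    simp only [c]
    have hiff : (((a * g * a⁻¹ : Nn P)) : G) ∈ Cn P ↔ (g : G) ∈ Cn P := by
      constructor
      · intro h
        have h1 := (Ct_normal P).conj_mem (a * g * a⁻¹) (Subgroup.mem_subgroupOf.mpr h) a⁻¹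
        have h2 : a⁻¹ * (a * g * a⁻¹) * a⁻¹⁻¹ = g := by group
        rw [h2] at h1
        exact h1
      · intro h
        exact (Ct_normal P).conj_mem g (Subgroup.mem_subgroupOf.mpr h) a
    by_cases h : (g : G) ∈ Cn P
    · rw [if_pos h, if_pos (hiff.mpr h)]
      exact blockCoeff_conj_invariant B (g : G) (a : G)
    · rw [if_neg h, if_neg (fun h' => h (hiff.mp h'))]
  have hβ1 : (β : Nn P → ℂ) 1 ≠ 0 := irr_one_ne_zero β.2
  have hκ : ∑ a, c a * (β : Nn P → ℂ) a = κ * (β : Nn P → ℂ) 1 := by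
    have h1 := Cfsg.Agent.Lib.BlockT.Normal.sum_mul_eq_of_constituent (Ct_normal P) β.2 (isIrr_tilde θ.2) hcon
      (fun n : Ct P => blockCoeff B ((n : Nn P) : G)) (by
        intro t n
        exact blockCoeff_conj_invariant B _ _)
    have h2 : ∑ a, c a * (β : Nn P → ℂ) a =
        ∑ n : Ct P, blockCoeff B ((n : Nn P) : G) * (β : Nn P → ℂ) n := by
      rw [sum_eq_sum_subgroup (Ct P) (fun a => c a * (β : Nn P → ℂ) a)]
      · refine Finset.sum_congr rfl fun n _ => ?_
        have hn : (((n : Nn P)) : G) ∈ Cn P := n.2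
        simp only [c]
        rw [if_pos hn]
      · intro g hg
        have hg' : (g : G) ∉ Cn P := fun h => hg (Subgroup.mem_subgroupOf.mpr h)
        simp only [c]
        rw [if_neg hg', zero_mul]
    have h3 : κ = (∑ n : Ct P, blockCoeff B ((n : Nn P) : G) * tilde (θ : Cn P → ℂ) n) / tilde (θ : Cn P → ℂ) 1 := by
      have h4 : ∑ n : Ct P, blockCoeff B ((n : Nn P) : G) * tilde (θ : Cn P → ℂ) n =
          ∑ h : Cn P, blockCoeff B (h : G) * (θ : Cn P → ℂ) h := by
        refine Fintype.sum_equiv (ctEquiv P).toEquiv _ _ fun n => ?_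
        rfl
      have h5 : tilde (θ : Cn P → ℂ) 1 = (θ : Cn P → ℂ) 1 := by
        simp [tilde]
      rw [h4, h5]
      simp only [κ, indHom_apply, omegaHom_apply, lin_apply]
      rfl
    rw [h2]
    rw [← h3] at h1
    rw [div_eq_iff hβ1] at h1
    exact h1
  have hκred : κ ∈ V ∧ red V κ = 1 := by
    obtain ⟨α, hα⟩ := isPBlock_nonempty hB
    have h1 := IsInducedBlock.sub_mem (Cn P) hind (mem_blockOf_self θ) hα (idem_mem_localCenter hB)
    rw [omegaHom_idem, if_pos hα] at h1
    have h2 := hVn _ h1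
    have h3 : κ - 1 ∈ V := nonunits_le h2
    have h4 : κ ∈ V := by
      have h5 := V.add_mem _ _ h3 V.one_mem
      rwa [sub_add_cancel] at h5
    refine ⟨h4, ?_⟩
    have h5 := (red_eq_zero_iff h3).mpr h2
    rw [red_sub h4 V.one_mem, red_one, sub_eq_zero] at h5
    exact h5
  have hlocal₀ := hsum c κ hc hcl hκ
  rw [hκred.2, one_smul] at hlocal₀
  have houtside := sum_outside_eq_zero (k := K V) hP (fun a : Nn P => f a • τ a) (by
    intro a ha u hu
    obtain ⟨v, -, hv⟩ := exists_conj_eq_mul hP a.2 ha hu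
    have h1 : f ((a * u : Nn P) : G) = f a := by
      have h2 : ((a * u : Nn P) : G) = v * a * v⁻¹ := by
        rw [hv]
        rfl
      rw [h2]
      exact hcent _ _
    rw [h1, map_mul, hτP u (hPx ▸ hu), mul_one])
  have hlocal' : ∑ a : Nn P, f a • τ a = 1 := by
    rw [← hlocal₀, ← add_zero (∑ a, red V (c a) • τ a), ← houtside, ← Finset.sum_add_distrib]
    refine Finset.sum_congr rfl fun a _ => ?_
    by_cases h : (a : G) ∈ Cn P
    · simp only [c, f]
      rw [if_pos h, if_pos h, add_zero]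
    · simp only [c, f]
      rw [if_neg h, if_neg h, red_zero, zero_smul, zero_add]
  obtain ⟨S, i1, i2, i3, ρ', hirr, heOp, ι', hemb⟩ := exists_simple_of_local hS hτ hτP f hcent hidem (by
    convert hlocal')
  exact ⟨m, τ, S, i1, i2, i3, ρ', ι', hm, htr, hirr, heOp, hemb⟩

end Main

end Cfsg.Agent.Lib.D1.CountA
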