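import Cfsg.Agent.Lib.D1.Comp
import Cfsg.Agent.Lib.ExcP.Gram

/-!
# Local structure around a Sylow subgroup of prime order
-/

set_option autoImplicit false

namespace Cfsg.Agent.Lib.D1.Local

open Cfsg Cfsg.Agent.Lib.D1.Simple Cfsg.Agent.Lib.ExcP.Gram

universe u

variable {G : Type u} [Group G] [Finite G] {p : ℕ} [hp : Fact p.Prime] {x : G}

/-- Elements of order `p` of the normalizer of `⟨x⟩` lie in `⟨x⟩`. -/
theorem mem_zpowers_of_mem_normalizer (hx : orderOf x = p) (hp2 : ¬ p ^ 2 ∣ Nat.card G) {y : G}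
    (hy : y ∈ Subgroup.normalizer ((Subgroup.zpowers x : Subgroup G) : Set G))
    (hyo : orderOf y = p) : y ∈ Subgroup.zpowers x := by
  set P : Subgroup G := Subgroup.zpowers x with hPdef
  have hP : Nat.card P = p := by rw [hPdef, Nat.card_zpowers, hx]
  have hK : IsPGroup p (Subgroup.zpowers y) :=
    IsPGroup.of_card (n := 1) (by rw [Nat.card_zpowers, hyo, pow_one])
  have hPp : IsPGroup p P := IsPGroup.of_card (n := 1) (by rw [hP, pow_one])
  have hle : Subgroup.zpowers y ≤ Subgroup.normalizer (P : Set G) := by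
    rw [Subgroup.zpowers_le]
    exact hy
  have hsup := IsPGroup.to_sup_of_normal_right' hK hPp hle
  obtain ⟨n, hn⟩ := hsup.exists_card_eq
  have hn1 : n ≤ 1 := by
    by_contra hcon
    apply hp2
    have h1 : p ^ 2 ∣ p ^ n := pow_dvd_pow p (by omega)
    rw [← hn] at h1
    exact h1.trans (Subgroup.card_subgroup_dvd_card _)
  have hle2 : Subgroup.zpowers y ⊔ P = P := by
    symm
    apply Subgroup.eq_of_le_of_card_ge le_sup_right
    rw [hn, hP]
    calc p ^ n ≤ p ^ 1 := Nat.pow_le_pow_right hp.out.pos hn1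
      _ = p := pow_one p
  have h3 : y ∈ Subgroup.zpowers y ⊔ P := (le_sup_left : Subgroup.zpowers y ≤ _) (Subgroup.mem_zpowers y)
  rwa [hle2] at h3

/-- The setup for the normalizer of a subgroup of order `p`, `p ^ 2 ∤ |G|`. -/
theorem setup_of {k : Type*} [Field k] [CharP k p] (hx : orderOf x = p) (hp2 : ¬ p ^ 2 ∣ Nat.card G) :
    Setup (k := k) x p (Subgroup.normalizer ((Subgroup.zpowers x : Subgroup G) : Set G)) := by
  set P : Subgroup G := Subgroup.zpowers x with hPdef
  have hP : Nat.card P = p := by rw [hPdef, Nat.card_zpowers, hx]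
  have hxP : x ∈ P := Subgroup.mem_zpowers x
  have hx1 : x ≠ 1 := by
    rintro rfl
    rw [orderOf_one] at hx
    exact hp.out.one_lt.ne hx
  refine ⟨hp.out, ?_, Subgroup.le_normalizer hxP, hx, ?_, ?_, ?_⟩
  · rw [← hx]
    exact pow_orderOf_eq_one x
  · intro n hn
    have h1 : n * x * n⁻¹ ∈ P := (Subgroup.mem_set_normalizer_iff.mp hn x).mp hxP
    obtain ⟨z, hz⟩ := Subgroup.mem_zpowers_iff.mp h1
    refine ⟨(z % (orderOf x : ℤ)).toNat, ?_⟩
    have hpos : (0 : ℤ) < (orderOf x : ℤ) := by
      exact_mod_cast orderOf_pos x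
    rw [← hz, ← zpow_natCast, Int.toNat_of_nonneg (Int.emod_nonneg _ hpos.ne')]
    exact (zpow_mod_orderOf x z).symm
  · intro g hg h hh hgh
    by_contra hne
    apply hg
    have hho : orderOf h = p := by
      have h1 : orderOf h ∣ p := by
        rw [← hP]
        have := orderOf_dvd_natCard (⟨h, hh⟩ : P)
        rwa [Subgroup.orderOf_mk] at this
      rcases (Nat.dvd_prime hp.out).mp h1 with h2 | h2
      · exact absurd (orderOf_eq_one_iff.mp h2) hne
      · exact h2
    have hconj : orderOf (g⁻¹ * h * g) = p := by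
      have h1 := (MulAut.conj g⁻¹).orderOf_eq h
      have h2 : (MulAut.conj g⁻¹) h = g⁻¹ * h * g := by simp
      rw [h2] at h1
      rw [h1, hho]
    have hmem := mem_zpowers_of_mem_normalizer hx hp2 hgh hconj
    have h3 := mem_normalizer_of_conj_mem (p := p) (P := P) (y := g⁻¹⁻¹) hP hmem hh hne (by group)
    simpa using h3
  · have hnd : ¬ p ∣ (P.subgroupOf (Subgroup.normalizer (P : Set G))).index := by
      intro hd
      apply hp2
      have h1 : P.index = (P.subgroupOf (Subgroup.normalizer (P : Set G))).index *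
          (Subgroup.normalizer (P : Set G)).index :=
        (Subgroup.relIndex_mul_index (Subgroup.le_normalizer)).symm
      have h2 : p ∣ P.index := by
        rw [h1]
        exact Dvd.dvd.mul_right hd _
      rw [← Subgroup.card_mul_index P, hP, sq]
      exact Nat.mul_dvd_mul_left p h2
    intro h0
    exact hnd ((CharP.cast_eq_zero_iff k p _).mp h0)

end Cfsg.Agent.Lib.D1.Local
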