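import Cfsg.Agent.Lib.D1.Reduce
import Cfsg.Agent.Lib.D1.Local
import Cfsg.Agent.Lib.Char.Complete
import Cfsg.Agent.Lib.Char.Eigen
import Cfsg.Agent.Lib.Char.Ortho
import Cfsg.Agent.Lib.ModRep.Count

/-!
# Reductions of irreducible characters trivial on a subgroup of index prime to `p`
-/

set_option autoImplicit false

namespace Cfsg.Agent.Lib.D1.Modl

open Cfsg Module Cfsg.Agent.Lib.D1.Res Cfsg.Agent.Lib.D1.Simple Cfsg.Agent.Lib.D1.Reduce
open Cfsg.Agent.Lib.Char.Basic Cfsg.Agent.Lib.Char.Complete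
open scoped BigOperators

universe u

variable {H : Type u} [Group H] [Fintype H] {V : ValuationSubring ℂ}

/-- The reduction of an irreducible character. -/
theorem exists_reduced {L : Subgroup H} {β : H → ℂ} (hβ : IsIrrCharacter H β) (hL : ∀ y ∈ L, β y = β 1)
    (hind : (L.index : K V) ≠ 0) :
    ∃ (m : ℕ) (τ : Representation (K V) H (Fin m → K V)), 0 < m ∧ τ.IsIrreducible ∧
      (∀ n, LinearMap.trace (K V) (Fin m → K V) (τ n) = red V (β n)) ∧ (∀ y ∈ L, τ y = 1) ∧
      ∀ (c : H → ℂ) (κ : ℂ), (∀ g, c g ∈ V) → (∀ a g, c (a * g * a⁻¹) = c g) →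
        (∑ a, c a * β a = κ * β 1) → ∑ a, red V (c a) • τ a = red V κ • (1 : End (K V) (Fin m → K V)) := by
  classical
  obtain ⟨n, ρ, hρ, rfl⟩ := id hβ
  obtain ⟨m, b, MV, h⟩ := exists_intForm V ρ
  haveI := hρ
  have hL' : ∀ y ∈ L, ρ y = 1 := by
    intro y hy
    have h1 := hL y hy
    rw [Representation.char_one] at h1
    exact (Cfsg.Agent.Lib.Char.Eigen.character_eq_finrank_iff ρ y).mp h1
  have hnt : Nontrivial (Fin n → ℂ) := nontrivial_of_isIrreducible hρ
  have hm : 0 < m := by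
    have h1 := Module.finrank_pos (R := ℂ) (M := Fin n → ℂ)
    rw [Module.finrank_eq_card_basis b] at h1
    simpa using h1
  refine ⟨m, redRep h, hm, h.irr hρ L hL' hind, ?_, ?_, ?_⟩
  · intro g
    exact h.trace_redRep g
  · intro y hy
    have h1 : MV y = MV 1 := by
      apply map_val_injective
      rw [h.coe_matrix, h.coe_matrix, hL' y hy, map_one ρ]
    rw [redRep_apply, redM, h1, ← redM, h.redM_one, Matrix.toLin'_one]
    rfl
  · intro c κ hc hcl hsum
    let T : End ℂ (Fin n → ℂ) := ∑ a, c a • ρ a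
    have hT : ∀ g, ρ g * T = T * ρ g := by
      intro g
      have h1 : ρ g * T * ρ g⁻¹ = T := by
        simp only [T]
        rw [Finset.mul_sum, Finset.sum_mul]
        refine Fintype.sum_equiv (MulAut.conj g).toEquiv _ _ fun a => ?_
        have e : (MulAut.conj g).toEquiv a = g * a * g⁻¹ := by simp
        rw [e, hcl, mul_smul_comm, smul_mul_assoc, map_mul, map_mul]
      have h2 : ρ g⁻¹ * ρ g = 1 := by rw [← map_mul, inv_mul_cancel, map_one]
      calc ρ g * T = ρ g * T * (ρ g⁻¹ * ρ g) := by rw [h2, mul_one]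
        _ = (ρ g * T * ρ g⁻¹) * ρ g := by simp only [mul_assoc]
        _ = T * ρ g := by rw [h1]
    obtain ⟨κ', hκ'⟩ := exists_scalar_of_commute ρ T hT
    have h1 : κ' = κ := by
      have h2 : LinearMap.trace ℂ (Fin n → ℂ) T = ∑ a, c a * ρ.character a := by
        simp only [T]
        rw [map_sum]
        refine Finset.sum_congr rfl fun a _ => ?_
        rw [map_smul, smul_eq_mul]
        rfl
      rw [hsum, hκ', map_smul, LinearMap.trace_one] at h2
      have h3 : ρ.character 1 = (finrank ℂ (Fin n → ℂ) : ℂ) := Representation.char_one ρ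
      rw [h3, smul_eq_mul] at h2
      have h4 : (finrank ℂ (Fin n → ℂ) : ℂ) ≠ 0 := by
        rw [← h3]
        exact irr_one_ne_zero ⟨n, ρ, hρ, rfl⟩
      exact mul_right_cancel₀ h4 h2
    rw [h1] at hκ'
    exact (h.redRep_sum c hc κ hκ' hm).2

/-- Algebraic integers lie in `V`. -/
theorem mem_of_isIntegral {z : ℂ} (hz : IsIntegral ℤ z) : z ∈ V := by
  have hint : IsIntegral V z := hz.tower_top
  obtain ⟨y, rfl⟩ := (IsIntegrallyClosed.isIntegral_iff (R := V) (K := ℂ)).mp hint
  exact y.2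

theorem character_mem {n : ℕ} (ρ : Representation ℂ H (Fin n → ℂ)) (g : H) : ρ.character g ∈ V :=
  mem_of_isIntegral (Cfsg.Agent.Lib.Char.Eigen.character_isIntegral ρ g)

/-- The sum over cosets of a subgroup acting trivially. -/
theorem sum_mul_inv_eq {L : Subgroup H} [Fintype (H ⧸ L)] {n n' : ℕ} (ρ : Representation ℂ H (Fin n → ℂ))
    (ρ' : Representation ℂ H (Fin n' → ℂ)) (hρ : ∀ y ∈ L, ρ y = 1) (hρ' : ∀ y ∈ L, ρ' y = 1) :
    ∑ h : H, ρ.character h * ρ'.character h⁻¹ =
      (Nat.card L : ℂ) * ∑ q : H ⧸ L, ρ.character q.out * ρ'.character (q.out)⁻¹ := by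
  classical
  letI : Fintype L := Fintype.ofFinite _
  rw [Cfsg.Agent.Lib.ModRep.Count.sum_cosets L, Finset.mul_sum]
  refine Finset.sum_congr rfl fun q _ => ?_
  have h1 : ∀ u : L, ρ.character (q.out * (u : H)) * ρ'.character (q.out * (u : H))⁻¹ =
      ρ.character q.out * ρ'.character (q.out)⁻¹ := by
    intro u
    have e1 : ρ (q.out * (u : H)) = ρ q.out := by
      rw [map_mul, hρ _ u.2, mul_one]
    have e2 : ρ' (q.out * (u : H))⁻¹ = ρ' (q.out)⁻¹ := by
      rw [mul_inv_rev, map_mul, hρ' _ (L.inv_mem u.2), one_mul]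
    simp only [Representation.character, e1, e2]
  simp only [h1, Finset.sum_const, Finset.card_univ, nsmul_eq_mul, Nat.card_eq_fintype_card]

/-- Distinct irreducible characters trivial on a subgroup of index prime to `p` have distinct
reductions. -/
theorem exists_red_ne {L : Subgroup H} {β β' : H → ℂ} (hβ : IsIrrCharacter H β)
    (hβ' : IsIrrCharacter H β') (hne : β ≠ β') (hL : ∀ y ∈ L, β y = β 1) (hL' : ∀ y ∈ L, β' y = β' 1)
    (hind : (L.index : K V) ≠ 0) : ∃ n, red V (β n) ≠ red V (β' n) := by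
  classical
  by_contra hall
  push Not at hall
  obtain ⟨n, ρ, hρ, rfl⟩ := id hβ
  obtain ⟨n', ρ', hρ', rfl⟩ := id hβ'
  have hT : ∀ y ∈ L, ρ y = 1 := by
    intro y hy
    have h1 := hL y hy
    rw [Representation.char_one] at h1
    exact (Cfsg.Agent.Lib.Char.Eigen.character_eq_finrank_iff ρ y).mp h1
  have hT' : ∀ y ∈ L, ρ' y = 1 := by
    intro y hy
    have h1 := hL' y hy
    rw [Representation.char_one] at h1
    exact (Cfsg.Agent.Lib.Char.Eigen.character_eq_finrank_iff ρ' y).mp h1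
  letI : Fintype (H ⧸ L) := Fintype.ofFinite _
  have hH : (Nat.card H : ℂ) ≠ 0 := by
    exact_mod_cast Nat.card_pos.ne'
  have hLc : (Nat.card L : ℂ) ≠ 0 := by
    exact_mod_cast Nat.card_pos.ne'
  have hform : ∀ {m m' : ℕ} (σ : Representation ℂ H (Fin m → ℂ)) (σ' : Representation ℂ H (Fin m' → ℂ)),
      (Nat.card H : ℂ) * Cfsg.classInner σ.character σ'.character = ∑ h : H, σ.character h * σ'.character h⁻¹ := by
    intro m m' σ σ'
    rw [Cfsg.Agent.Lib.Char.Ortho.classInner_def, mul_inv_cancel_left₀ hH]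
    refine Finset.sum_congr rfl fun h _ => ?_
    rw [Cfsg.Agent.Lib.Char.Eigen.character_inv]
  have h1 := hform ρ ρ'
  rw [Cfsg.Agent.Lib.Char.Ortho.classInner_irr hβ hβ', if_neg hne, mul_zero,
    sum_mul_inv_eq ρ ρ' hT hT'] at h1
  have h2 : ∑ q : H ⧸ L, ρ.character q.out * ρ'.character (q.out)⁻¹ = 0 := by
    have := h1.symm
    exact (mul_eq_zero.mp this).resolve_left hLc
  have h3 := hform ρ ρ
  rw [Cfsg.Agent.Lib.Char.Ortho.classInner_irr hβ hβ, if_pos rfl, mul_one, sum_mul_inv_eq ρ ρ hT hT] at h3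
  have h4 : ∑ q : H ⧸ L, ρ.character q.out * ρ.character (q.out)⁻¹ = (L.index : ℂ) := by
    have h5 : (Nat.card H : ℂ) = (Nat.card L : ℂ) * (L.index : ℂ) := by
      rw [← Nat.cast_mul, Subgroup.card_mul_index]
    rw [h5] at h3
    exact (mul_left_cancel₀ hLc h3).symm
  have h6 : red V (∑ q : H ⧸ L, ρ.character q.out * ρ'.character (q.out)⁻¹) =
      red V (∑ q : H ⧸ L, ρ.character q.out * ρ.character (q.out)⁻¹) := by
    rw [red_sum _ _ (fun q _ => V.mul_mem _ _ (character_mem ρ _) (character_mem ρ' _)),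
      red_sum _ _ (fun q _ => V.mul_mem _ _ (character_mem ρ _) (character_mem ρ _))]
    refine Finset.sum_congr rfl fun q _ => ?_
    rw [red_mul (character_mem ρ _) (character_mem ρ' _), red_mul (character_mem ρ _) (character_mem ρ _),
      ← hall (q.out)⁻¹]
  rw [h2, h4, red_zero, red_natCast] at h6
  exact hind h6.symm

section Transport

variable {G : Type*} [Group G] {k : Type*} [Field k] {S₁ S₂ T : Type*} [AddCommGroup S₁] [Module k S₁]
  [AddCommGroup S₂] [Module k S₂] [AddCommGroup T] [Module k T] {ρ₁ : Representation k G S₁}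
  {ρ₂ : Representation k G S₂} {x : G} {p : ℕ} {N : Subgroup G} {τ : Representation k N T}
  {ι : T →ₗ[k] S₁}

/-- An intertwiner between irreducible representations is bijective if nonzero. -/
theorem bijective_of_intertwiner (h₁ : ρ₁.IsIrreducible) (h₂ : ρ₂.IsIrreducible) (φ : S₁ →ₗ[k] S₂)
    (hφ : ∀ g, φ ∘ₗ ρ₁ g = ρ₂ g ∘ₗ φ) (h0 : φ ≠ 0) : Function.Bijective φ := by
  have hφ' : ∀ g v, φ (ρ₁ g v) = ρ₂ g (φ v) := fun g v => LinearMap.congr_fun (hφ g) v
  let Kr : Subrepresentation ρ₁ :=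
    ⟨LinearMap.ker φ, fun g v hv => by
      simp only [LinearMap.mem_ker] at hv ⊢
      rw [hφ', hv, map_zero]⟩
  let Rn : Subrepresentation ρ₂ :=
    ⟨LinearMap.range φ, fun g v hv => by
      obtain ⟨w, rfl⟩ := hv
      exact ⟨ρ₁ g w, hφ' g w⟩⟩
  constructor
  · rw [← LinearMap.ker_eq_bot]
    rcases h₁.eq_bot_or_eq_top Kr with h | h
    · have := congrArg Subrepresentation.toSubmodule h
      exact this
    · exfalso
      apply h0
      have h3 : LinearMap.ker φ = ⊤ := congrArg Subrepresentation.toSubmodule h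
      exact LinearMap.ker_eq_top.mp h3
  · rw [← LinearMap.range_eq_top]
    rcases h₂.eq_bot_or_eq_top Rn with h | h
    · exfalso
      apply h0
      have h3 : LinearMap.range φ = ⊥ := congrArg Subrepresentation.toSubmodule h
      exact LinearMap.range_eq_bot.mp h3
    · exact congrArg Subrepresentation.toSubmodule h

/-- Transporting a stable embedding along an isomorphism. -/
theorem stableEmb_comp (h : StableEmb ρ₁ x p N τ ι) (φ : S₁ →ₗ[k] S₂)
    (hφ : ∀ g, φ ∘ₗ ρ₁ g = ρ₂ g ∘ₗ φ) (hb : Function.Bijective φ) :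
    StableEmb ρ₂ x p N τ (φ ∘ₗ ι) := by
  have hφ' : ∀ g v, φ (ρ₁ g v) = ρ₂ g (φ v) := fun g v => LinearMap.congr_fun (hφ g) v
  have hu : ∀ v, φ (uu ρ₁ x v) = uu ρ₂ x (φ v) := by
    intro v
    simp [uu, hφ']
  have hupow : ∀ (r : ℕ) (v), φ ((uu ρ₁ x ^ r) v) = (uu ρ₂ x ^ r) (φ v) := by
    intro r
    induction r with
    | zero => simp
    | succ r ih =>
      intro v
      rw [pow_succ, Module.End.mul_apply, ih, hu, pow_succ, Module.End.mul_apply]
  refine ⟨fun n t => ?_, fun t => ?_, fun t ht => ?_⟩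
  · simp only [LinearMap.comp_apply]
    rw [h.equiv, hφ']
  · simp only [LinearMap.comp_apply]
    rw [← hu, h.fix, map_zero]
  · obtain ⟨w, hw⟩ := ht
    obtain ⟨w₀, rfl⟩ := hb.2 w
    apply h.stable
    refine ⟨w₀, hb.1 ?_⟩
    rw [hupow, hw]
    rfl

end Transport

end Cfsg.Agent.Lib.D1.Modl
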