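import Cfsg.Agent.Lib.Char.Extend
import Cfsg.Agent.Lib.Char.Gallagher
import Cfsg.Agent.Lib.Char.CliffordCorr
import Cfsg.Agent.Lib.BlockT.Inflate
import Cfsg.Agent.Lib.Char.Linear

/-!
# Irreducible characters over an irreducible character with cyclic inertia quotient

If `A` is normal in `G`, `ϑ ∈ Irr(A)` and the inertia quotient `I / A` is cyclic, then exactly
`|I : A|` irreducible characters of `G` lie over `ϑ`, each with multiplicity one.
-/

set_option autoImplicit false

namespace Cfsg.Agent.Lib.D1.Over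

open Cfsg
open Cfsg.Agent.Lib.Char.Basic Cfsg.Agent.Lib.Char.Ortho Cfsg.Agent.Lib.Char.Complete
open Cfsg.Agent.Lib.Char.Induced Cfsg.Agent.Lib.Char.Conj
open Cfsg.Agent.Lib.Char.Clifford Cfsg.Agent.Lib.Char.CliffordCorr
open Cfsg.Agent.Lib.Char.Gallagher Cfsg.Agent.Lib.Char.Extend
open Cfsg.Agent.Lib.BlockT.Inflate Cfsg.Agent.Lib.Char.Linear
open scoped ComplexConjugate

universe u

variable {G : Type u} [Group G] [Fintype G] {A : Subgroup G} [Fintype A]

/-- Multiplicity one at the level of the inertia group. -/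
theorem res_eq_one (hA : A.Normal) {ϑ : A → ℂ} (hϑ : IsIrrCharacter A ϑ) {I : Subgroup G} [Fintype I]
    (hAI : A ≤ I) (hI : I = inertia hA ϑ) (hcyc : IsCyclic (I ⧸ A.subgroupOf I)) {ψ : I → ℂ}
    (hψ : IsIrrCharacter I ψ) (hcon : classInner (res hAI ψ) ϑ ≠ 0) :
    classInner (res hAI ψ) ϑ = 1 := by
  classical
  let A' : Subgroup I := A.subgroupOf I
  have hA' : A'.Normal := hA.subgroupOf I
  let eqv : A' ≃* A := Subgroup.subgroupOfEquivOfLe hAI
  let ϑ' : A' → ℂ := ϑ ∘ eqv
  have hϑ' : IsIrrCharacter A' ϑ' := isIrrCharacter_comp_mulEquiv eqv hϑ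
  have hinv : ∀ g : I, conjOn hA' g ϑ' = ϑ' := by
    intro g
    have hg : conjOn hA g ϑ = ϑ := by
      have h0 : (g : G) ∈ inertia hA ϑ := hI ▸ g.2
      exact h0
    funext n
    have h1 := congrFun hg (eqv n)
    rw [conjOn_apply] at h1
    exact (congrArg ϑ (Subtype.ext rfl)).trans h1
  letI : Fintype A' := Fintype.ofFinite _
  obtain ⟨χ, hχ, hext⟩ := exists_irr_ext_of_cyclic hA' hϑ' hinv hcyc
  have hone : IsIrrCharacter A' (fun _ => (1 : ℂ)) := Cfsg.Agent.Lib.Char.Burnside.isIrrCharacter_one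
  have hmul : (fun _ => (1 : ℂ)) * ϑ' = ϑ' := by
    funext n
    simp
  have hbij := bijOn_mul_extension hA' hone (fun g => by funext n; rfl) hinv
    (by rw [hmul]; exact hϑ') hχ (funext hext)
  have hres : (fun n : A' => ψ n) = res hAI ψ ∘ eqv := by
    funext n
    rfl
  have hinner : classInner (fun n : A' => ψ n) ϑ' = classInner (res hAI ψ) ϑ := by
    rw [hres]
    exact classInner_comp_mulEquiv eqv _ _
  have hmem : ψ ∈ {ψ : I → ℂ | IsIrrCharacter I ψ ∧
      classInner (indFun A' ((fun _ => (1 : ℂ)) * ϑ')) ψ ≠ 0} := by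
    refine ⟨hψ, ?_⟩
    rw [hmul, classInner_indFun_left _ _ _ (isClassFunction_of_isIrrCharacter hψ)]
    apply classInner_ne_zero_comm
    rw [hinner]
    exact hcon
  obtain ⟨β, ⟨hβ, hβind⟩, rfl⟩ := hbij.surjOn hmem
  have hβt : ∀ n : A', β n = β 1 := by
    apply trivial_of_constituent_one hA' hβ
    apply classInner_ne_zero_comm
    rwa [classInner_indFun_left _ _ _ (isClassFunction_of_isIrrCharacter hβ)] at hβind
  have hsurj : Function.Surjective (QuotientGroup.mk' A') := QuotientGroup.mk'_surjective A'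
  obtain ⟨φ, hφ, hφβ⟩ := isIrrCharacter_descend (QuotientGroup.mk' A') hsurj hβ (by
    intro k hk
    rw [QuotientGroup.ker_mk'] at hk
    exact hβt ⟨k, hk⟩)
  have hcomm : ∀ a b : I ⧸ A', a * b = b * a := fun a b => hcyc.isMulCommutative.is_comm.comm a b
  have hφ1 := isIrr_deg_one_of_comm hcomm hφ
  have hβ1 : β 1 = 1 := by
    rw [hφβ]
    simpa using hφ1
  have hval : res hAI (fun g => β g * χ g) = ϑ := by
    funext a
    have h1 := hβt (eqv.symm a)
    have h2 := hext (eqv.symm a)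
    have h3 : (((eqv.symm a : A') : I)) = ⟨a, hAI a.2⟩ := by
      apply Subtype.ext
      have h4 := congrArg Subtype.val (eqv.apply_symm_apply a)
      exact h4
    rw [h3] at h1 h2
    simp only [res]
    rw [h1, h2, hβ1, one_mul]
    simp [ϑ']
  change classInner (res hAI (fun g => β g * χ g)) ϑ = 1
  rw [hval]
  exact classInner_self_of_isIrr hϑ

/-- Multiplicity one. -/
theorem classInner_eq_one (hA : A.Normal) {ϑ : A → ℂ} (hϑ : IsIrrCharacter A ϑ)
    (hcyc : IsCyclic (inertia hA ϑ ⧸ A.subgroupOf (inertia hA ϑ))) {β : G → ℂ}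
    (hβ : IsIrrCharacter G β) (hcon : classInner (fun n : A => β n) ϑ ≠ 0) :
    classInner (fun n : A => β n) ϑ = 1 := by
  classical
  letI : Fintype (inertia hA ϑ) := Fintype.ofFinite _
  have hAI : A ≤ inertia hA ϑ := le_inertia hA (isClassFunction_of_isIrrCharacter hϑ)
  obtain ⟨ψ, hψ, -, hval⟩ := exists_irr_inertia_of_lies_over hA hAI hϑ rfl hβ hcon
  rw [← hval] at hcon ⊢
  exact res_eq_one hA hϑ hAI rfl hcyc hψ hcon

/-- The number of irreducible characters over `ϑ`. -/
theorem card_over (hA : A.Normal) {ϑ : A → ℂ} (hϑ : IsIrrCharacter A ϑ)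
    (hcyc : IsCyclic (inertia hA ϑ ⧸ A.subgroupOf (inertia hA ϑ))) :
    Nat.card {β : IrrCharacter G // classInner (fun n : A => (β : G → ℂ) n) ϑ ≠ 0} =
      A.relIndex (inertia hA ϑ) := by
  classical
  haveI := finite_irrCharacter (G := G)
  letI := Fintype.ofFinite (IrrCharacter G)
  have hAI : A ≤ inertia hA ϑ := le_inertia hA (isClassFunction_of_isIrrCharacter hϑ)
  have hcoef : ∀ β : IrrCharacter G, classInner (indFun A ϑ) (β : G → ℂ) *
      conj (classInner (indFun A ϑ) (β : G → ℂ)) =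
        if classInner (fun n : A => (β : G → ℂ) n) ϑ ≠ 0 then 1 else 0 := by
    intro β
    rw [classInner_indFun_left _ _ _ (isClassFunction_of_isIrrCharacter β.2)]
    have h0 : classInner ϑ (fun n : A => (β : G → ℂ) n) =
        conj (classInner (fun n : A => (β : G → ℂ) n) ϑ) := (classInner_conj _ _).symm
    rw [h0]
    by_cases h : classInner (fun n : A => (β : G → ℂ) n) ϑ ≠ 0
    · rw [if_pos h, classInner_eq_one hA hϑ hcyc β.2 h]
      simp
    · rw [if_neg h, not_not.mp h]
      simp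
  have h1 : classInner (indFun A ϑ) (indFun A ϑ) =
      (Nat.card {β : IrrCharacter G // classInner (fun n : A => (β : G → ℂ) n) ϑ ≠ 0} : ℂ) := by
    rw [classInner_eq_sum (isClassFunction_indFun _ _)]
    simp only [hcoef]
    rw [Finset.sum_boole, Nat.card_eq_fintype_card, Fintype.card_subtype]
  have h2 := card_inertia_eq hA hϑ
  rw [h1] at h2
  have h3 : Nat.card {g : G // conjOn hA g ϑ = ϑ} = Nat.card (inertia hA ϑ) := rfl
  rw [h3] at h2
  have h4 : Nat.card A * Nat.card {β : IrrCharacter G // classInner (fun n : A => (β : G → ℂ) n) ϑ ≠ 0} =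
      Nat.card (inertia hA ϑ) := by
    exact_mod_cast h2
  have h5 : A.relIndex (inertia hA ϑ) * Nat.card A = Nat.card (inertia hA ϑ) := by
    have h6 := Subgroup.card_mul_index (A.subgroupOf (inertia hA ϑ))
    have h7 : Nat.card (A.subgroupOf (inertia hA ϑ)) = Nat.card A :=
      Nat.card_congr (Subgroup.subgroupOfEquivOfLe hAI).toEquiv
    rw [h7, mul_comm] at h6
    exact h6
  rw [← h5, mul_comm] at h4
  exact Nat.eq_of_mul_eq_mul_right Nat.card_pos h4

end Cfsg.Agent.Lib.D1.Over
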