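import Cfsg.Agent.Lib.ModTI.Trace
import Cfsg.Agent.Lib.ModTI.Cyclic

/-!
# Simple modules and the Tate cohomology of a trivial intersection subgroup of order `p`

Let `P = ⟨x⟩` have order `p` (the characteristic of the algebraically closed field `k`), and
suppose `P` acts freely on `G / N` away from the base point, where `P ⊴ N`, `p ∤ |N : P|`.
For a simple `kG`-module `S`, the quotient `Fix_P(S) / Norm_P(S)` is zero or simple for `N`.
-/

set_option autoImplicit false

namespace Cfsg.Agent.Lib.D1.Simple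

open scoped BigOperators
open Module

variable {G : Type*} [Group G] {k : Type*} [Field k] {S : Type*} [AddCommGroup S] [Module k S]

/-- Schur's lemma. -/
theorem exists_scalar_of_commute [IsAlgClosed k] [FiniteDimensional k S] (ρ : Representation k G S)
    [hρ : ρ.IsIrreducible] (T : End k S) (hT : ∀ g, ρ g * T = T * ρ g) : ∃ c : k, T = c • 1 := by
  have hnt : Nontrivial S := by
    by_contra hn
    rw [not_nontrivial_iff_subsingleton] at hn
    have h1 : (⊥ : Subrepresentation ρ) = ⊤ := by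
      apply Subrepresentation.toSubmodule_injective
      exact Subsingleton.elim _ _
    exact hρ.toNontrivial.exists_pair_ne.elim fun a hb => hb.elim fun b hab =>
      hab ((eq_bot_of_bot_eq_top h1 a).trans (eq_bot_of_bot_eq_top h1 b).symm)
  obtain ⟨c, hc⟩ := Module.End.exists_eigenvalue T
  refine ⟨c, ?_⟩
  let E : Subrepresentation ρ :=
    { toSubmodule := Module.End.eigenspace T c
      apply_mem_toSubmodule := by
        intro g v hv
        rw [Module.End.mem_eigenspace_iff] at hv ⊢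
        have h := congrArg (fun f : End k S => f v) (hT g)
        simp only [Module.End.mul_apply] at h
        rw [← h, hv, map_smul] }
  have hE : E ≠ ⊥ := by
    intro h
    have h1 := congrArg Subrepresentation.toSubmodule h
    exact hc h1
  rcases hρ.eq_bot_or_eq_top E with h | h
  · exact absurd h hE
  · ext v
    have h1 : v ∈ E.toSubmodule := by rw [h]; trivial
    have h2 := Module.End.mem_eigenspace_iff.mp h1
    simpa using h2

/-- Summing over left cosets is invariant under left multiplication. -/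
theorem qsum_mul {N A : Type*} [Group N] [AddCommMonoid A] (Q : Subgroup N) [Fintype (N ⧸ Q)]
    (φ : N → A) (hφ : ∀ a, ∀ b ∈ Q, φ (a * b) = φ a) (n : N) :
    ∑ q : N ⧸ Q, φ (n * q.out) = ∑ q : N ⧸ Q, φ q.out := by
  classical
  have h0 : ∀ a : N, φ (a : N ⧸ Q).out = φ a := by
    intro a
    have h1 : ((a : N ⧸ Q).out)⁻¹ * a ∈ Q := QuotientGroup.eq.mp (Quotient.out_eq (a : N ⧸ Q))
    have h2 : a = (a : N ⧸ Q).out * (((a : N ⧸ Q).out)⁻¹ * a) := by group
    conv_rhs => rw [h2]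
    rw [hφ _ _ h1]
  have h1 : ∀ q : N ⧸ Q, φ (n * q.out) = φ (n • q).out := by
    intro q
    have h2 : n • q = ((n * q.out : N) : N ⧸ Q) := by
      conv_lhs => rw [← Quotient.out_eq q]
      rfl
    rw [h2, h0]
  simp only [h1]
  exact Equiv.sum_comp (MulAction.toPerm n) (fun q : N ⧸ Q => φ q.out)

section Core

variable (ρ : Representation k G S) (x : G) (p : ℕ)

/-- The augmentation element. -/
noncomputable abbrev uu : End k S := ρ x - 1

variable {ρ x p}

theorem uu_pow_mem_comm (m : ℕ) : Commute (ρ x) (uu ρ x ^ m) := by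
  apply Commute.pow_right
  exact (Commute.refl _).sub_right (Commute.one_right _)

/-- Conjugation of the augmentation element by an element normalising `⟨x⟩`. -/
theorem rho_mul_uu_pow {n : G} {a : ℕ} (hn : n * x * n⁻¹ = x ^ a) (r : ℕ) :
    ∃ v : End k S, ρ n * uu ρ x ^ r = uu ρ x ^ r * v * ρ n := by
  let v0 : End k S := ∑ i ∈ Finset.range a, ρ x ^ i
  have hc : Commute v0 (uu ρ x) := by
    apply Commute.sum_left
    intro i _
    apply Commute.pow_left
    exact (Commute.refl _).sub_right (Commute.one_right _)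
  have h1 : ρ n * uu ρ x = uu ρ x * v0 * ρ n := by
    have h2 : ρ n * ρ x = ρ x ^ a * ρ n := by
      rw [← map_mul, ← map_pow, ← hn, ← map_mul]
      congr 1
      group
    have h3 : uu ρ x * v0 = ρ x ^ a - 1 := by
      have := (Commute.one_right (ρ x)).mul_geom_sum₂ a
      simpa [uu, v0] using this
    rw [h3]
    simp only [uu, mul_sub, sub_mul, mul_one, one_mul, h2]
  have hs : SemiconjBy (ρ n) (uu ρ x) (uu ρ x * v0) := h1
  refine ⟨v0 ^ r, ?_⟩
  rw [(hs.pow_right r).eq, hc.symm.mul_pow]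

/-- The range of a power of the augmentation element is stable. -/
theorem rho_mem_range_uu_pow {n : G} {a : ℕ} (hn : n * x * n⁻¹ = x ^ a) (r : ℕ) {m : S}
    (hm : m ∈ LinearMap.range (uu ρ x ^ r)) : ρ n m ∈ LinearMap.range (uu ρ x ^ r) := by
  obtain ⟨w, rfl⟩ := hm
  obtain ⟨v, hv⟩ := rho_mul_uu_pow (ρ := ρ) hn r
  have h := congrArg (fun f : End k S => f w) hv
  simp only [Module.End.mul_apply] at h
  rw [h]
  exact ⟨_, rfl⟩

/-- The kernel of the augmentation element is the fixed space. -/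
theorem uu_apply_eq_zero {m : S} : uu ρ x m = 0 ↔ ρ x m = m := by
  simp [uu, sub_eq_zero]

theorem rho_pow_of_ker {m : S} (hm : uu ρ x m = 0) (i : ℕ) : (ρ x ^ i) m = m := by
  rw [uu_apply_eq_zero] at hm
  induction i with
  | zero => simp
  | succ i ih => rw [pow_succ, Module.End.mul_apply, hm, ih]

variable (hpp : p.Prime) [CharP k p] (hx : x ^ p = 1)
include hpp hx

/-- `u ^ p = 0`, and `1 + x + ⋯ + x ^ (p - 1) = u ^ (p - 1)`. -/
theorem geom_eq : ∑ i ∈ Finset.range p, ρ x ^ i = uu ρ x ^ (p - 1) := by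
  haveI : Fact p.Prime := ⟨hpp⟩
  have := Cfsg.Agent.Lib.ModTI.Cyclic.geom_sum_eq_pow_sub_one (F := k) (A := End k S) p 1 (ρ x)
  simpa using this

theorem uu_pow_p : uu ρ x ^ p = 0 := by
  have h1 := geom_eq (k := k) (ρ := ρ) hpp hx
  have h2 : uu ρ x * ∑ i ∈ Finset.range p, ρ x ^ i = ρ x ^ p - 1 := by
    have := (Commute.one_right (ρ x)).mul_geom_sum₂ p
    simpa [uu] using this
  rw [h1, ← map_pow, hx, map_one, sub_self, ← pow_succ', Nat.sub_add_cancel hpp.one_le] at h2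
  exact h2

end Core

section Main

variable (ρ : Representation k G S) (x : G) (p : ℕ) (N : Subgroup G)

/-- The span of the `N`-translates. -/
def orbitSpan (m : S) : Submodule k S := Submodule.span k (Set.range fun n : N => ρ (n : G) m)

/-- The data attached to an element `x` of order `p`, where `⟨x⟩` is normal in `N` and acts freely
on `G / N` away from the base point. -/
structure Setup : Prop where
  hpp : p.Prime
  hx : x ^ p = 1
  hxN : x ∈ N
  hxn : orderOf x = p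
  hnorm : ∀ n ∈ N, ∃ a : ℕ, n * x * n⁻¹ = x ^ a
  hfree : ∀ g : G, g ∉ N → ∀ h ∈ Subgroup.zpowers x, g⁻¹ * h * g ∈ N → h = 1
  hind : (((Subgroup.zpowers x).subgroupOf N).index : k) ≠ 0

variable {ρ x p N}

theorem Setup.zpowers_le (h : Setup (k := k) x p N) : Subgroup.zpowers x ≤ N := by
  rw [Subgroup.zpowers_le]
  exact h.hxN

/-- Elements of `⟨x⟩` are natural powers. -/
theorem Setup.exists_pow (h : Setup (k := k) x p N) {y : G} (hy : y ∈ Subgroup.zpowers x) :
    ∃ i < p, y = x ^ i := by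
  obtain ⟨z, rfl⟩ := Subgroup.mem_zpowers_iff.mp hy
  have hp0 : (0 : ℤ) < (p : ℤ) := by exact_mod_cast h.hpp.pos
  refine ⟨(z % (p : ℤ)).toNat, ?_, ?_⟩
  · have h1 := Int.emod_lt_of_pos z hp0
    have h2 := Int.emod_nonneg z hp0.ne'
    omega
  · have h2 := Int.emod_nonneg z hp0.ne'
    have h3 : ((z % (p : ℤ)).toNat : ℤ) = z % (p : ℤ) := Int.toNat_of_nonneg h2
    rw [← zpow_natCast, h3]
    have h4 := zpow_mod_orderOf x z
    rw [h.hxn] at h4
    exact h4.symm

theorem Setup.fix_of_ker (h : Setup (k := k) x p N) {m : S} (hm : uu ρ x m = 0) {y : G}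
    (hy : y ∈ Subgroup.zpowers x) : ρ y m = m := by
  obtain ⟨i, -, rfl⟩ := h.exists_pow hy
  rw [map_pow]
  exact rho_pow_of_ker hm i

theorem Setup.ker_rho (h : Setup (k := k) x p N) {m : S} (hm : uu ρ x m = 0) {n : G} (hn : n ∈ N) :
    uu ρ x (ρ n m) = 0 := by
  rw [uu_apply_eq_zero]
  obtain ⟨a, ha⟩ := h.hnorm n⁻¹ (N.inv_mem hn)
  have h1 : x * n = n * x ^ a := by
    rw [← ha]
    group
  rw [← Module.End.mul_apply, ← map_mul, h1, map_mul, Module.End.mul_apply, map_pow,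
    rho_pow_of_ker hm]

/-- The sum over `⟨x⟩`. -/
theorem Setup.sum_zpowers (h : Setup (k := k) x p N) [Fintype (Subgroup.zpowers x)] {A : Type*}
    [AddCommMonoid A] (F : G → A) :
    ∑ y : Subgroup.zpowers x, F y = ∑ i ∈ Finset.range p, F (x ^ i) := by
  classical
  symm
  refine Finset.sum_bij' (fun i _ => ⟨x ^ i, i, by simp⟩)
    (fun y _ => (h.exists_pow y.2).choose) ?_ ?_ ?_ ?_ ?_
  · intro i _
    exact Finset.mem_univ _
  · intro y _
    exact Finset.mem_range.mpr (h.exists_pow y.2).choose_spec.1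
  · intro i hi
    have h1 := (h.exists_pow (y := x ^ i) ⟨i, by simp⟩).choose_spec
    have h2 := pow_injOn_Iio_orderOf (x := x)
    rw [h.hxn] at h2
    exact h2 (Set.mem_Iio.mpr h1.1) (Set.mem_Iio.mpr (Finset.mem_range.mp hi)) h1.2.symm
  · intro y _
    apply Subtype.ext
    exact (h.exists_pow y.2).choose_spec.2.symm
  · intro i _
    rfl

variable [CharP k p]

/-- The key lemma: the relative trace forces any `N`-linear operator built from a single Jordan
chain to act as a scalar modulo the norms. -/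
theorem Setup.key [Finite G] [IsAlgClosed k] [FiniteDimensional k S] [ρ.IsIrreducible]
    (hS : Setup (k := k) x p N)
    {L : ℕ} (hL1 : 1 ≤ L) (hLp : L ≤ p - 1) {w : S} (hw0 : (uu ρ x ^ L) w = 0) {ℓ : S →ₗ[k] k}
    (hℓ : ∀ m, ℓ ((uu ρ x ^ L) m) = 0) (hℓ1 : ℓ ((uu ρ x ^ (L - 1)) w) ≠ 0) {m : S}
    (hm : uu ρ x m = 0) :
    m ∈ orbitSpan ρ N ((uu ρ x ^ (L - 1)) w) ⊔ LinearMap.range (uu ρ x ^ (p - 1)) := by
  classical
  haveI := Fintype.ofFinite G
  have hpp := hS.hpp
  set u := uu ρ x with hu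
  set m0 := (u ^ (L - 1)) w with hm0
  obtain ⟨L', rfl⟩ : ∃ L', L = L' + 1 := ⟨L - 1, by omega⟩
  simp only [Nat.add_sub_cancel] at *
  have hm0u : u m0 = 0 := by
    rw [hm0, ← Module.End.mul_apply, ← pow_succ']
    exact hw0
  -- the operator
  let y0 : End k S := ∑ i ∈ Finset.range (L' + 1),
    (ℓ ∘ₗ (u ^ (L' - i))).smulRight ((u ^ i) w)
  have hy0a : ∀ m, y0 m = ∑ i ∈ Finset.range (L' + 1), ℓ ((u ^ (L' - i)) m) • (u ^ i) w := by
    intro m
    simp [y0, LinearMap.sum_apply]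
  have hy0u : u * y0 = y0 * u := by
    ext m
    simp only [Module.End.mul_apply, hy0a, map_sum, map_smul]
    rw [Finset.sum_range_succ, Finset.sum_range_succ']
    have h1 : u ((u ^ L') w) = 0 := by
      rw [← Module.End.mul_apply, ← pow_succ']
      exact hw0
    have h2 : ℓ ((u ^ (L' - 0)) (u m)) = 0 := by
      rw [Nat.sub_zero, ← Module.End.mul_apply, ← pow_succ]
      exact hℓ m
    simp only [h2, zero_smul, add_zero, Nat.sub_self, pow_zero, Module.End.one_apply, h1, smul_zero]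
    refine Finset.sum_congr rfl fun i hi => ?_
    have hi' : i < L' := Finset.mem_range.mp hi
    have h3 : L' - (i + 1) + 1 = L' - i := by omega
    rw [← Module.End.mul_apply u (u ^ i), ← pow_succ', ← Module.End.mul_apply (u ^ (L' - (i + 1))) u,
      ← pow_succ, h3]
  have hy0x : ρ x * y0 = y0 * ρ x := by
    have h1 : ρ x = u + 1 := by simp [hu, uu]
    rw [h1, add_mul, mul_add, hy0u, one_mul, mul_one]
  have hy0P : ∀ y ∈ Subgroup.zpowers x, ρ y * y0 = y0 * ρ y := by
    intro y hy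
    obtain ⟨i, -, rfl⟩ := hS.exists_pow hy
    rw [map_pow]
    exact (Commute.pow_left (show Commute (ρ x) y0 from hy0x) i)
  have hy0ker : ∀ m', u m' = 0 → y0 m' = ℓ m' • m0 := by
    intro m' hm'
    rw [hy0a, Finset.sum_range_succ, Finset.sum_eq_zero, zero_add, Nat.sub_self, pow_zero]
    · rfl
    · intro i hi
      have hi' : i < L' := Finset.mem_range.mp hi
      obtain ⟨j, hj⟩ : ∃ j, L' - i = j + 1 := ⟨L' - i - 1, by omega⟩
      rw [hj, pow_succ, Module.End.mul_apply, hm', map_zero, map_zero, zero_smul]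
  -- the coset sum
  let Q : Subgroup N := (Subgroup.zpowers x).subgroupOf N
  haveI : Finite (N ⧸ Q) := inferInstance
  letI : Fintype (N ⧸ Q) := Fintype.ofFinite _
  have hρ1 : ∀ g : G, ρ g * ρ g⁻¹ = 1 := fun g => by rw [← map_mul, mul_inv_cancel, map_one]
  have hρ2 : ∀ g : G, ρ g⁻¹ * ρ g = 1 := fun g => by rw [← map_mul, inv_mul_cancel, map_one]
  let φ : N → End k S := fun a => ρ (a : G) * y0 * ρ ((a : G)⁻¹)
  have hφ : ∀ a, ∀ b ∈ Q, φ (a * b) = φ a := by
    intro a b hb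
    have hb' : (b : G) ∈ Subgroup.zpowers x := hb
    change ρ ((a * b : N) : G) * y0 * ρ ((a * b : N) : G)⁻¹ = ρ (a : G) * y0 * ρ ((a : G)⁻¹)
    rw [Subgroup.coe_mul, mul_inv_rev, map_mul, map_mul]
    calc ρ (a : G) * ρ (b : G) * y0 * (ρ (b : G)⁻¹ * ρ (a : G)⁻¹)
        = ρ (a : G) * (ρ (b : G) * y0) * (ρ (b : G)⁻¹ * ρ (a : G)⁻¹) := by simp only [mul_assoc]
      _ = ρ (a : G) * (y0 * ρ (b : G)) * (ρ (b : G)⁻¹ * ρ (a : G)⁻¹) := by rw [hy0P _ hb']
      _ = ρ (a : G) * y0 * (ρ (b : G) * ρ (b : G)⁻¹) * ρ (a : G)⁻¹ := by simp only [mul_assoc]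
      _ = ρ (a : G) * y0 * ρ (a : G)⁻¹ := by rw [hρ1, mul_one]
  let y : End k S := ∑ q : N ⧸ Q, φ q.out
  have hyN : ∀ n ∈ N, ρ n * y = y * ρ n := by
    intro n hn
    have h1 : ρ n * y * ρ n⁻¹ = y := by
      conv_rhs => rw [show y = ∑ q : N ⧸ Q, φ q.out from rfl,
        ← qsum_mul Q φ hφ ⟨n, hn⟩]
      rw [Finset.mul_sum, Finset.sum_mul]
      refine Finset.sum_congr rfl fun q _ => ?_
      change ρ n * (ρ (q.out : G) * y0 * ρ ((q.out : G)⁻¹)) * ρ n⁻¹ =
        ρ ((⟨n, hn⟩ * q.out : N) : G) * y0 * ρ ((⟨n, hn⟩ * q.out : N) : G)⁻¹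
      rw [Subgroup.coe_mul, mul_inv_rev, map_mul, map_mul]
      simp only [mul_assoc]
    calc ρ n * y = ρ n * y * (ρ n⁻¹ * ρ n) := by rw [hρ2, mul_one]
      _ = (ρ n * y * ρ n⁻¹) * ρ n := by simp only [mul_assoc]
      _ = y * ρ n := by rw [h1]
  letI : Fintype (Subgroup.zpowers x) := Fintype.ofFinite _
  obtain ⟨T, f, hT, hTf⟩ := Cfsg.Agent.Lib.ModTI.Trace.exists_trace_decomp ρ (Subgroup.zpowers x) N
    hS.zpowers_le hS.hfree y hyN
  obtain ⟨c, hc⟩ := exists_scalar_of_commute ρ T hT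
  -- action on the kernel
  have hyK : ∀ m', u m' = 0 → y m' = ∑ q : N ⧸ Q, ℓ (ρ ((q.out : G)⁻¹) m') • ρ (q.out : G) m0 := by
    intro m' hm'
    simp only [y, LinearMap.sum_apply]
    refine Finset.sum_congr rfl fun q _ => ?_
    change ρ (q.out : G) (y0 (ρ ((q.out : G)⁻¹) m')) = _
    rw [hy0ker _ (hS.ker_rho hm' (N.inv_mem q.out.2)), map_smul]
  have hTK : ∀ m', u m' = 0 → c • m' = y m' + (u ^ (p - 1)) (f m') := by
    intro m' hm'
    have h1 := congrArg (fun t : End k S => t m') (hc.symm.trans hTf)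
    simp only [LinearMap.add_apply, LinearMap.smul_apply, Module.End.one_apply,
      LinearMap.sum_apply, Module.End.mul_apply] at h1
    rw [h1]
    congr 1
    rw [← geom_eq (ρ := ρ) hpp hS.hx, LinearMap.sum_apply]
    have h2 : ∀ h : Subgroup.zpowers x,
        ρ (h : G) (f (ρ ((h : G)⁻¹) m')) = ρ (h : G) (f m') := by
      intro h
      rw [hS.fix_of_ker hm' (Subgroup.inv_mem _ h.2)]
    simp only [h2]
    rw [hS.sum_zpowers (fun g => ρ g (f m'))]
    simp
  have hmorb : ∀ q : N ⧸ Q, ρ (q.out : G) m0 ∈ orbitSpan ρ N m0 := fun q =>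
    Submodule.subset_span ⟨q.out, rfl⟩
  have hyOrb : ∀ m', u m' = 0 → y m' ∈ orbitSpan ρ N m0 := by
    intro m' hm'
    rw [hyK m' hm']
    exact Submodule.sum_mem _ fun q _ => Submodule.smul_mem _ _ (hmorb q)
  -- the scalar is nonzero
  have hc0 : c ≠ 0 := by
    intro hc0
    -- restrict to the kernel
    let K : Submodule k S := LinearMap.ker u
    have hmq : ∀ q : N ⧸ Q, ρ (q.out : G) m0 ∈ K := fun q => hS.ker_rho hm0u q.out.2
    let ℓq : N ⧸ Q → Module.Dual k K := fun q => ℓ ∘ₗ ρ ((q.out : G)⁻¹) ∘ₗ K.subtype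
    let yF : End k K := ∑ q : N ⧸ Q, (ℓq q).smulRight (⟨ρ (q.out : G) m0, hmq q⟩ : K)
    have hyF : ∀ z : K, ((yF z : K) : S) = y z := by
      intro z
      rw [hyK z z.2]
      simp [yF, ℓq, LinearMap.sum_apply]
    have hnorm : ∀ z : K, ((yF z : K) : S) ∈ LinearMap.range (u ^ (p - 1)) := by
      intro z
      rw [hyF]
      have h1 := hTK z z.2
      rw [hc0, zero_smul] at h1
      have h2 : y z = (u ^ (p - 1)) (-(f z)) := by
        rw [map_neg]
        exact eq_neg_of_add_eq_zero_left h1.symm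
      rw [h2]
      exact ⟨_, rfl⟩
    have hkill : ∀ z : K, ((z : K) : S) ∈ LinearMap.range (u ^ (p - 1)) → yF z = 0 := by
      intro z hz
      apply Subtype.ext
      rw [hyF, hyK z z.2]
      apply Finset.sum_eq_zero
      intro q _
      obtain ⟨a, ha⟩ := hS.hnorm _ (N.inv_mem q.out.2)
      have h1 := rho_mem_range_uu_pow (ρ := ρ) ha (p - 1) hz
      obtain ⟨b, hb⟩ := h1
      have h2 : ((q.out : G))⁻¹ = ((q.out : N) : G)⁻¹ := rfl
      have h3 : ℓ (ρ ((q.out : G)⁻¹) z) = 0 := by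
        rw [← hb]
        obtain ⟨d, hd⟩ : ∃ d, p - 1 = (L' + 1) + d := ⟨p - 1 - (L' + 1), by omega⟩
        rw [hd, pow_add, Module.End.mul_apply]
        exact hℓ _
      rw [h3, zero_smul]
    have hnil : yF * yF = 0 := by
      ext z
      simp only [Module.End.mul_apply, LinearMap.zero_apply]
      rw [hkill _ (hnorm z)]
    have htr0 : LinearMap.trace k K yF = 0 := by
      have h1 : IsNilpotent yF := ⟨2, by rw [sq, hnil]⟩
      exact (LinearMap.isNilpotent_trace_of_isNilpotent h1).eq_zero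
    have htr1 : LinearMap.trace k K yF = ((N ⧸ Q : Type _) |> Fintype.card : k) * ℓ m0 := by
      simp only [yF, map_sum]
      have h1 : ∀ q : N ⧸ Q, LinearMap.trace k K ((ℓq q).smulRight (⟨ρ (q.out : G) m0, hmq q⟩ : K)) =
          ℓ m0 := by
        intro q
        have h2 : (ℓq q).smulRight (⟨ρ (q.out : G) m0, hmq q⟩ : K) =
            dualTensorHom k K K (ℓq q ⊗ₜ[k] (⟨ρ (q.out : G) m0, hmq q⟩ : K)) := by
          ext z
          simp [dualTensorHom_apply]
        rw [h2, LinearMap.trace_eq_contract_apply]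
        simp only [contractLeft_apply]
        change ℓ (ρ ((q.out : G)⁻¹) (ρ (q.out : G) m0)) = ℓ m0
        rw [← Module.End.mul_apply, hρ2]
        rfl
      simp only [h1, Finset.sum_const, Finset.card_univ, nsmul_eq_mul]
    rw [htr1] at htr0
    have h5 : ((N ⧸ Q : Type _) |> Fintype.card : k) ≠ 0 := by
      have := hS.hind
      rw [Subgroup.index_eq_card, Nat.card_eq_fintype_card] at this
      exact this
    exact (mul_ne_zero h5 hℓ1) htr0
  have h1 : m = c⁻¹ • (y m + (u ^ (p - 1)) (f m)) := by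
    rw [← hTK m hm, smul_smul, inv_mul_cancel₀ hc0, one_smul]
  rw [h1]
  apply Submodule.smul_mem
  exact Submodule.add_mem _ (Submodule.mem_sup_left (hyOrb m hm))
    (Submodule.mem_sup_right ⟨_, rfl⟩)

/-- The quotient `Fix / Norm` of a simple module is simple for `N`. -/
theorem Setup.le_sup_of_not_le [Finite G] [IsAlgClosed k] [FiniteDimensional k S] [ρ.IsIrreducible]
    (hS : Setup (k := k) x p N) (X : Submodule k S) (hXN : ∀ n ∈ N, ∀ m ∈ X, ρ n m ∈ X)
    (hXle : X ≤ LinearMap.ker (uu ρ x)) (hne : ¬ X ≤ LinearMap.range (uu ρ x ^ (p - 1))) :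
    LinearMap.ker (uu ρ x) ≤ X ⊔ LinearMap.range (uu ρ x ^ (p - 1)) := by
  classical
  have hpp := hS.hpp
  set u := uu ρ x with hu
  set Nm := LinearMap.range (u ^ (p - 1)) with hNm
  let K : ℕ → Submodule k S := fun r => LinearMap.ker u ⊓ LinearMap.range (u ^ r)
  have hKN : ∀ r, ∀ n ∈ N, ∀ m ∈ K r, ρ n m ∈ K r := by
    intro r n hn m hm
    obtain ⟨a, ha⟩ := hS.hnorm n hn
    exact ⟨hS.ker_rho hm.1 hn, rho_mem_range_uu_pow ha r hm.2⟩
  have hNK : ∀ r, r ≤ p - 1 → Nm ≤ K r := by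
    intro r hr m hm
    obtain ⟨b, rfl⟩ := hm
    refine ⟨?_, ?_⟩
    · change u ((u ^ (p - 1)) b) = 0
      rw [← Module.End.mul_apply, ← pow_succ', Nat.sub_add_cancel hpp.one_le,
        show u ^ p = 0 from uu_pow_p hpp hS.hx]
      rfl
    · obtain ⟨d, hd⟩ : ∃ d, p - 1 = r + d := ⟨p - 1 - r, by omega⟩
      rw [hd, pow_add, Module.End.mul_apply]
      exact ⟨_, rfl⟩
  -- the maximal level
  have hex : ∃ r, ¬ K r ≤ Nm := by
    refine ⟨0, fun h => hne ?_⟩
    intro m hm
    exact h ⟨hXle hm, by simp⟩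
  have hbd : ∀ r, ¬ K r ≤ Nm → r < p - 1 := by
    intro r hr
    by_contra hc
    apply hr
    intro m hm
    obtain ⟨b, rfl⟩ := hm.2
    obtain ⟨d, hd⟩ : ∃ d, r = (p - 1) + d := ⟨r - (p - 1), by omega⟩
    rw [hd, pow_add, Module.End.mul_apply]
    exact ⟨_, rfl⟩
  obtain ⟨r, hr, hrmax⟩ : ∃ r, ¬ K r ≤ Nm ∧ ∀ s, r < s → K s ≤ Nm := by
    let r := Nat.findGreatest (fun r => ¬ K r ≤ Nm) (p - 1)
    obtain ⟨r0, hr0⟩ := hex
    have h1 : ¬ K r ≤ Nm := Nat.findGreatest_spec (P := fun r => ¬ K r ≤ Nm) (hbd r0 hr0).le hr0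
    refine ⟨r, h1, fun s hs => ?_⟩
    by_contra hc
    have h2 := hbd s hc
    have h3 := Nat.le_findGreatest (P := fun r => ¬ K r ≤ Nm) h2.le hc
    exact absurd h3 (by omega)
  have hrlt := hbd r hr
  -- the key lemma applied to an element of `K r` outside the norms
  have hkey : ∀ m0 ∈ K r, m0 ∉ Nm → LinearMap.ker u ≤ orbitSpan ρ N m0 ⊔ Nm := by
    intro m0 hm0 hm0N m hm
    have hm01 := hm0.1
    obtain ⟨w, rfl⟩ := hm0.2
    have hnot : (u ^ r) w ∉ LinearMap.range (u ^ (r + 1)) :=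
      fun h => hm0N (hrmax (r + 1) (by omega) ⟨hm01, h⟩)
    obtain ⟨ℓ, hℓ1, hℓ2⟩ := Submodule.exists_le_ker_of_notMem hnot
    have h1 : (u ^ (r + 1)) w = 0 := by
      rw [pow_succ', Module.End.mul_apply]
      exact hm01
    exact hS.key (L := r + 1) (by omega) (by omega) (w := w) h1 (ℓ := ℓ)
      (fun m => hℓ2 ⟨m, rfl⟩) hℓ1 hm
  obtain ⟨m1, hm1, hm1N⟩ := SetLike.not_le_iff_exists.mp hr
  have horb : ∀ m0 ∈ K r, orbitSpan ρ N m0 ≤ K r := by
    intro m0 hm0
    apply Submodule.span_le.mpr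
    rintro _ ⟨n, rfl⟩
    exact hKN r n n.2 m0 hm0
  have hker : LinearMap.ker u ≤ K r := by
    refine (hkey m1 hm1 hm1N).trans (sup_le (horb m1 hm1) (hNK r hrlt.le))
  obtain ⟨m2, hm2, hm2N⟩ := SetLike.not_le_iff_exists.mp hne
  refine (hkey m2 (hker (hXle hm2)) hm2N).trans (sup_le_sup_right ?_ _)
  apply Submodule.span_le.mpr
  rintro _ ⟨n, rfl⟩
  exact hXN n n.2 m2 hm2

/-- A stable embedding of an `N`-module. -/
structure StableEmb {T : Type*} [AddCommGroup T] [Module k T] (ρ : Representation k G S) (x : G)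
    (p : ℕ) (N : Subgroup G) (τ : Representation k N T) (ι : T →ₗ[k] S) : Prop where
  equiv : ∀ (n : N) (t : T), ι (τ n t) = ρ (n : G) (ι t)
  fix : ∀ t, uu ρ x (ι t) = 0
  stable : ∀ t, ι t ∈ LinearMap.range (uu ρ x ^ (p - 1)) → t = 0

/-- The range of a stable embedding covers the fixed points modulo norms. -/
theorem Setup.ker_le_of_stableEmb [Finite G] [IsAlgClosed k] [FiniteDimensional k S] [ρ.IsIrreducible]
    (hS : Setup (k := k) x p N) {T : Type*} [AddCommGroup T] [Module k T] [Nontrivial T]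
    {τ : Representation k N T} {ι : T →ₗ[k] S} (h : StableEmb ρ x p N τ ι) :
    LinearMap.ker (uu ρ x) ≤ LinearMap.range ι ⊔ LinearMap.range (uu ρ x ^ (p - 1)) := by
  apply hS.le_sup_of_not_le
  · rintro n hn _ ⟨t, rfl⟩
    exact ⟨τ ⟨n, hn⟩ t, h.equiv ⟨n, hn⟩ t⟩
  · rintro _ ⟨t, rfl⟩
    exact h.fix t
  · intro hle
    obtain ⟨t, ht⟩ := exists_ne (0 : T)
    exact ht (h.stable t (hle ⟨t, rfl⟩))

theorem Setup.range_mk_of_stableEmb [Finite G] [IsAlgClosed k] [FiniteDimensional k S]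
    [ρ.IsIrreducible] (hS : Setup (k := k) x p N) {T : Type*} [AddCommGroup T] [Module k T]
    [Nontrivial T] {τ : Representation k N T} {ι : T →ₗ[k] S} (h : StableEmb ρ x p N τ ι) :
    LinearMap.range ((LinearMap.range (uu ρ x ^ (p - 1))).mkQ ∘ₗ ι) =
      (LinearMap.ker (uu ρ x)).map (LinearMap.range (uu ρ x ^ (p - 1))).mkQ := by
  apply le_antisymm
  · rintro _ ⟨t, rfl⟩
    exact ⟨ι t, h.fix t, rfl⟩
  · rintro _ ⟨m, hm, rfl⟩
    obtain ⟨a, ha, b, hb, rfl⟩ := Submodule.mem_sup.mp (hS.ker_le_of_stableEmb h hm)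
    obtain ⟨t, rfl⟩ := ha
    refine ⟨t, ?_⟩
    simp only [LinearMap.comp_apply, map_add]
    have : (LinearMap.range (uu ρ x ^ (p - 1))).mkQ b = 0 := (Submodule.Quotient.mk_eq_zero _).mpr hb
    rw [this, add_zero]

/-- Two stable embeddings into a simple module have the same trace. -/
theorem Setup.trace_eq [Finite G] [IsAlgClosed k] [FiniteDimensional k S] [ρ.IsIrreducible]
    (hS : Setup (k := k) x p N) {T₁ T₂ : Type*} [AddCommGroup T₁] [Module k T₁]
    [FiniteDimensional k T₁] [Nontrivial T₁] [AddCommGroup T₂] [Module k T₂] [FiniteDimensional k T₂]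
    [Nontrivial T₂] {τ₁ : Representation k N T₁} {τ₂ : Representation k N T₂} {ι₁ : T₁ →ₗ[k] S}
    {ι₂ : T₂ →ₗ[k] S} (h₁ : StableEmb ρ x p N τ₁ ι₁) (h₂ : StableEmb ρ x p N τ₂ ι₂) (n : N) :
    LinearMap.trace k T₁ (τ₁ n) = LinearMap.trace k T₂ (τ₂ n) := by
  classical
  set Nm := LinearMap.range (uu ρ x ^ (p - 1)) with hNm
  let mk := Nm.mkQ
  let j₁ : T₁ →ₗ[k] S ⧸ Nm := mk ∘ₗ ι₁
  let j₂ : T₂ →ₗ[k] S ⧸ Nm := mk ∘ₗ ι₂
  have hj₁ : Function.Injective j₁ := by
    rw [← LinearMap.ker_eq_bot, LinearMap.ker_eq_bot']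
    intro t ht
    apply h₁.stable
    exact (Submodule.Quotient.mk_eq_zero _).mp ht
  have hj₂ : Function.Injective j₂ := by
    rw [← LinearMap.ker_eq_bot, LinearMap.ker_eq_bot']
    intro t ht
    apply h₂.stable
    exact (Submodule.Quotient.mk_eq_zero _).mp ht
  have hr : LinearMap.range j₁ = LinearMap.range j₂ :=
    (hS.range_mk_of_stableEmb h₁).trans (hS.range_mk_of_stableEmb h₂).symm
  let e : T₁ ≃ₗ[k] T₂ := (LinearEquiv.ofInjective j₁ hj₁).trans
    ((LinearEquiv.ofEq _ _ hr).trans (LinearEquiv.ofInjective j₂ hj₂).symm)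
  have he : ∀ t, j₂ (e t) = j₁ t := by
    intro t
    have := (LinearEquiv.ofInjective j₂ hj₂).apply_symm_apply
      (LinearEquiv.ofEq _ _ hr (LinearEquiv.ofInjective j₁ hj₁ t))
    exact congrArg Subtype.val this
  obtain ⟨a, ha⟩ := hS.hnorm n n.2
  have hnm : ∀ v ∈ Nm, ρ (n : G) v ∈ Nm := fun v hv => rho_mem_range_uu_pow ha _ hv
  have hequiv : ∀ t, e (τ₁ n t) = τ₂ n (e t) := by
    intro t
    apply hj₂
    rw [he]
    have h1 : j₁ t = j₂ (e t) := (he t).symm
    have h2 : ι₁ t - ι₂ (e t) ∈ Nm := by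
      have : mk (ι₁ t) = mk (ι₂ (e t)) := h1
      exact (Submodule.Quotient.eq _).mp this
    have h3 := hnm _ h2
    change mk (ι₁ (τ₁ n t)) = mk (ι₂ (τ₂ n (e t)))
    rw [h₁.equiv, h₂.equiv]
    apply (Submodule.Quotient.eq _).mpr
    rw [← map_sub]
    exact h3
  have h5 : τ₂ n = e.conj (τ₁ n) := by
    ext t
    have := hequiv (e.symm t)
    simp only [LinearEquiv.apply_symm_apply] at this
    simp [LinearEquiv.conj_apply, this]
  rw [h5, LinearMap.trace_conj']

end Main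

end Cfsg.Agent.Lib.D1.Simple
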