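import Cfsg.Agent.Lib.D1.Res
import Cfsg.Agent.Lib.D1.Simple

/-!
# Reduction of complex representations modulo the maximal ideal of `V`
-/

set_option autoImplicit false

namespace Cfsg.Agent.Lib.D1.Reduce

open Cfsg Module Cfsg.Agent.Lib.D1.Res Cfsg.Agent.Lib.D1.Simple
open scoped BigOperators Matrix

universe u v

variable {V : ValuationSubring ℂ}
variable {H : Type u} [Group H] [Finite H] {W : Type v} [AddCommGroup W] [Module ℂ W]
  [FiniteDimensional ℂ W]

/-- An integral form of a representation. -/
structure IntForm (V : ValuationSubring ℂ) (ρ : Representation ℂ H W) {n : ℕ} (b : Basis (Fin n) ℂ W)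
    (MV : H → Matrix (Fin n) (Fin n) V) : Prop where
  coe : ∀ g i j, (MV g i j : ℂ) = b.repr (ρ g (b j)) i

theorem exists_intForm (V : ValuationSubring ℂ) (ρ : Representation ℂ H W) :
    ∃ (n : ℕ) (b : Basis (Fin n) ℂ W) (MV : H → Matrix (Fin n) (Fin n) V), IntForm V ρ b MV := by
  obtain ⟨n, b, hb⟩ := Cfsg.Agent.Lib.ModTI.Integral.exists_integral_basis V ρ
  exact ⟨n, b, fun g i j => ⟨_, hb g i j⟩, ⟨fun g i j => rfl⟩⟩

variable {ρ : Representation ℂ H W} {n : ℕ} {b : Basis (Fin n) ℂ W}
  {MV : H → Matrix (Fin n) (Fin n) V}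

theorem IntForm.coe_matrix (h : IntForm V ρ b MV) (g : H) :
    (MV g).map (Subtype.val) = LinearMap.toMatrix b b (ρ g) := by
  ext i j
  simp [h.coe, LinearMap.toMatrix_apply]

theorem map_val_injective {A B : Matrix (Fin n) (Fin n) V}
    (h : A.map (Subtype.val) = B.map (Subtype.val)) : A = B := by
  ext i j
  have := congrFun (congrFun h i) j
  simpa using this

theorem map_val_mul (A B : Matrix (Fin n) (Fin n) V) :
    (A * B).map (Subtype.val) = A.map (Subtype.val) * B.map (Subtype.val) := by
  have := Matrix.map_mul (L := A) (M := B) (f := V.subtype)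
  exact this

theorem IntForm.mul (h : IntForm V ρ b MV) (g g' : H) : MV (g * g') = MV g * MV g' := by
  apply map_val_injective
  rw [map_val_mul, h.coe_matrix, h.coe_matrix, h.coe_matrix, map_mul]
  exact LinearMap.toMatrix_mul b _ _

theorem IntForm.one (h : IntForm V ρ b MV) : MV 1 = 1 := by
  apply map_val_injective
  rw [h.coe_matrix, map_one, LinearMap.toMatrix_one]
  ext i j
  by_cases hij : i = j <;> simp [Matrix.one_apply, hij]

/-- The reduced matrices. -/
noncomputable def redM (MV : H → Matrix (Fin n) (Fin n) V) (g : H) : Matrix (Fin n) (Fin n) (K V) :=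
  (MV g).map (IsLocalRing.residue V)

theorem redM_apply (g : H) (i j : Fin n) : redM MV g i j = IsLocalRing.residue V (MV g i j) := rfl

theorem IntForm.redM_mul (h : IntForm V ρ b MV) (g g' : H) : redM MV (g * g') = redM MV g * redM MV g' := by
  have := Matrix.map_mul (L := MV g) (M := MV g') (f := IsLocalRing.residue V)
  rw [redM, h.mul]
  exact this

theorem IntForm.redM_one (h : IntForm V ρ b MV) : redM MV 1 = 1 := by
  rw [redM, h.one]
  exact Matrix.map_one _ (map_zero _) (map_one _)

/-- The reduced representation. -/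
noncomputable def redRep (h : IntForm V ρ b MV) : Representation (K V) H (Fin n → K V) where
  toFun g := Matrix.toLin' (redM MV g)
  map_one' := by
    rw [h.redM_one, Matrix.toLin'_one]
    rfl
  map_mul' g g' := by
    rw [h.redM_mul, Matrix.toLin'_mul]
    rfl

theorem redRep_apply (h : IntForm V ρ b MV) (g : H) : redRep h g = Matrix.toLin' (redM MV g) := rfl

theorem IntForm.entry_mem (h : IntForm V ρ b MV) (g : H) (i j : Fin n) :
    b.repr (ρ g (b j)) i ∈ V := by
  rw [← h.coe]
  exact (MV g i j).2

theorem IntForm.red_entry (h : IntForm V ρ b MV) (g : H) (i j : Fin n) :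
    red V (b.repr (ρ g (b j)) i) = redM MV g i j := by
  rw [← h.coe, red_coe]
  rfl

/-- The trace of the reduction is the reduction of the trace. -/
theorem IntForm.trace_redRep (h : IntForm V ρ b MV) (g : H) :
    LinearMap.trace (K V) (Fin n → K V) (redRep h g) = red V (LinearMap.trace ℂ W (ρ g)) := by
  rw [redRep_apply, Matrix.trace_toLin'_eq, LinearMap.trace_eq_matrix_trace ℂ b]
  have h1 : Matrix.trace (LinearMap.toMatrix b b (ρ g)) = ∑ i, ((MV g i i : V) : ℂ) := by
    rw [← h.coe_matrix]
    rfl
  rw [h1, red_sum _ _ (fun i _ => (MV g i i).2)]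
  simp only [red_coe]
  rfl

/-- A `V`-combination of the group elements which is scalar reduces to a scalar. -/
theorem IntForm.redRep_sum [Fintype H] (h : IntForm V ρ b MV) (c : H → ℂ) (hc : ∀ g, c g ∈ V) (κ : ℂ)
    (hκ : ∑ g : H, c g • ρ g = κ • 1) (hn : 0 < n) :
    κ ∈ V ∧ ∑ g : H, red V (c g) • redRep h g = red V κ • 1 := by
  classical
  have hentry : ∀ i j, ∑ g : H, c g * (MV g i j : ℂ) = if i = j then κ else 0 := by
    intro i j
    have h1 := congrArg (fun T : End ℂ W => b.repr (T (b j)) i) hκ
    simp only [LinearMap.sum_apply, map_sum, Finsupp.coe_finset_sum, Finset.sum_apply, LinearMap.smul_apply,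
      map_smul, Finsupp.smul_apply, Module.End.one_apply, Basis.repr_self, smul_eq_mul] at h1
    simp only [h.coe]
    rw [h1, Finsupp.single_apply]
    by_cases hij : i = j
    · simp [hij]
    · simp [hij, Ne.symm hij]
  have hκV : κ ∈ V := by
    have h1 := hentry ⟨0, hn⟩ ⟨0, hn⟩
    rw [if_pos rfl] at h1
    rw [← h1]
    exact sum_mem' _ _ fun g _ => V.mul_mem _ _ (hc g) (MV g _ _).2
  refine ⟨hκV, ?_⟩
  apply LinearMap.toMatrix'.injective
  ext i j
  have h1 := congrArg (red V) (hentry i j)
  rw [red_sum _ _ (fun g _ => V.mul_mem _ _ (hc g) (MV g _ _).2)] at h1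
  have h2 : ∀ g : H, red V (c g * (MV g i j : ℂ)) = red V (c g) * redM MV g i j := by
    intro g
    rw [red_mul (hc g) (MV g i j).2, red_coe]
    rfl
  simp only [h2] at h1
  have h3 : (LinearMap.toMatrix' (∑ g : H, red V (c g) • redRep h g)) i j =
      ∑ g : H, red V (c g) * redM MV g i j := by
    rw [map_sum, Matrix.sum_apply]
    refine Finset.sum_congr rfl fun g _ => ?_
    rw [map_smul, redRep_apply, LinearMap.toMatrix'_toLin']
    rfl
  rw [h3, h1]
  have h4 : (LinearMap.toMatrix' (red V κ • (1 : End (K V) (Fin n → K V)))) i j =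
      if i = j then red V κ else 0 := by
    rw [map_smul]
    have : LinearMap.toMatrix' (1 : End (K V) (Fin n → K V)) = 1 := LinearMap.toMatrix'_id
    rw [this]
    by_cases hij : i = j <;> simp [hij, Matrix.one_apply]
  rw [h4]
  by_cases hij : i = j
  · simp [hij]
  · simp [hij, red_zero]

/-- The reduction of an irreducible representation of a group with a normal subgroup of index
prime to the characteristic acting trivially is irreducible. -/
theorem IntForm.irr (h : IntForm V ρ b MV) (hρ : ρ.IsIrreducible) (L : Subgroup H)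
    (hL : ∀ y ∈ L, ρ y = 1) (hind : (L.index : K V) ≠ 0) : (redRep h).IsIrreducible := by
  classical
  haveI := hρ
  have hnt : Nontrivial W := by
    by_contra hn
    rw [not_nontrivial_iff_subsingleton] at hn
    have h1 : (⊥ : Subrepresentation ρ) = ⊤ := by
      apply Subrepresentation.toSubmodule_injective
      exact Subsingleton.elim _ _
    exact hρ.toNontrivial.exists_pair_ne.elim fun a hb => hb.elim fun b hab =>
      hab ((eq_bot_of_bot_eq_top h1 a).trans (eq_bot_of_bot_eq_top h1 b).symm)
  have hn : 0 < n := by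
    have h1 := Module.finrank_pos (R := ℂ) (M := W)
    rw [Module.finrank_eq_card_basis b] at h1
    simpa using h1
  letI : Fintype (H ⧸ L) := Fintype.ofFinite _
  have hmain : ∀ X : Subrepresentation (redRep h), X ≠ ⊥ → X = ⊤ := by
    intro X hX
    have hX' : X.toSubmodule ≠ ⊥ := fun h0 => hX (Subrepresentation.toSubmodule_injective h0)
    obtain ⟨w, hwX, hw0⟩ := Submodule.exists_mem_ne_zero_of_ne_bot hX'
    obtain ⟨i₀, hi₀⟩ : ∃ i, w i ≠ 0 := by
      by_contra hc
      push Not at hc
      exact hw0 (funext hc)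
    -- lifts
    choose ŵ hŵ using fun i => IsLocalRing.residue_surjective (w i)
    obtain ⟨ĉ, hĉ⟩ := IsLocalRing.residue_surjective (w i₀)⁻¹
    let F : Matrix (Fin n) (Fin n) V := Matrix.of fun i j => ŵ i * (if j = i₀ then ĉ else 0)
    let Fb : Matrix (Fin n) (Fin n) (K V) := F.map (IsLocalRing.residue V)
    have hFb : ∀ i j, Fb i j = w i * (if j = i₀ then (w i₀)⁻¹ else 0) := by
      intro i j
      change IsLocalRing.residue V (ŵ i * (if j = i₀ then ĉ else 0)) = _
      rw [map_mul, hŵ]
      by_cases hj : j = i₀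
      · simp [hj, hĉ]
      · simp [hj]
    have hFbv : ∀ u : Fin n → K V, Fb *ᵥ u = (u i₀ * (w i₀)⁻¹) • w := by
      intro u
      ext i
      simp only [Matrix.mulVec, dotProduct, hFb, Pi.smul_apply, smul_eq_mul]
      rw [Finset.sum_eq_single i₀]
      · simp
        ring
      · intro j _ hj
        simp [hj]
      · simp
    -- the trace
    let Φ : End ℂ W := Matrix.toLin b b (F.map Subtype.val)
    let φ : H → End ℂ W := fun a => ρ a * Φ * ρ a⁻¹
    have hφ : ∀ a, ∀ y ∈ L, φ (a * y) = φ a := by
      intro a y hy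
      change ρ (a * y) * Φ * ρ (a * y)⁻¹ = ρ a * Φ * ρ a⁻¹
      rw [mul_inv_rev, map_mul, map_mul, hL y hy, hL _ (L.inv_mem hy)]
      simp
    let T : End ℂ W := ∑ q : H ⧸ L, φ q.out
    have hT : ∀ g, ρ g * T = T * ρ g := by
      intro g
      have h1 : ρ g * T * ρ g⁻¹ = T := by
        conv_rhs => rw [show T = ∑ q : H ⧸ L, φ q.out from rfl, ← qsum_mul L φ hφ g]
        rw [Finset.mul_sum, Finset.sum_mul]
        refine Finset.sum_congr rfl fun q _ => ?_
        change ρ g * (ρ q.out * Φ * ρ q.out⁻¹) * ρ g⁻¹ = ρ (g * q.out) * Φ * ρ (g * q.out)⁻¹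
        rw [mul_inv_rev, map_mul, map_mul]
        simp only [mul_assoc]
      have h2 : ρ g⁻¹ * ρ g = 1 := by rw [← map_mul, inv_mul_cancel, map_one]
      calc ρ g * T = ρ g * T * (ρ g⁻¹ * ρ g) := by rw [h2, mul_one]
        _ = (ρ g * T * ρ g⁻¹) * ρ g := by simp only [mul_assoc]
        _ = T * ρ g := by rw [h1]
    obtain ⟨κ, hκ⟩ := exists_scalar_of_commute ρ T hT
    -- in matrices
    let TV : Matrix (Fin n) (Fin n) V := ∑ q : H ⧸ L, MV q.out * F * MV q.out⁻¹
    have hTV : TV.map Subtype.val = κ • (1 : Matrix (Fin n) (Fin n) ℂ) := by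
      have h1 : LinearMap.toMatrix b b T = κ • (1 : Matrix (Fin n) (Fin n) ℂ) := by
        rw [hκ, map_smul]
        congr 1
        exact LinearMap.toMatrix_one b
      rw [← h1]
      have h2 : LinearMap.toMatrix b b T = ∑ q : H ⧸ L, LinearMap.toMatrix b b (φ q.out) := by
        rw [map_sum]
      rw [h2]
      have h3 : ∀ q : H ⧸ L, LinearMap.toMatrix b b (φ q.out) =
          (MV q.out * F * MV q.out⁻¹).map Subtype.val := by
        intro q
        rw [map_val_mul, map_val_mul, h.coe_matrix, h.coe_matrix]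
        change LinearMap.toMatrix b b (ρ q.out * Φ * ρ q.out⁻¹) = _
        rw [LinearMap.toMatrix_mul b, LinearMap.toMatrix_mul b]
        simp [Φ]
      simp only [h3]
      ext i j
      simp [TV, Matrix.sum_apply]
    have hκV : κ ∈ V := by
      have h1 := congrFun (congrFun hTV ⟨0, hn⟩) ⟨0, hn⟩
      simp only [Matrix.map_apply, Matrix.smul_apply, Matrix.one_apply_eq, smul_eq_mul, mul_one] at h1
      rw [← h1]
      exact (TV _ _).2
    have hTV2 : TV = (⟨κ, hκV⟩ : V) • (1 : Matrix (Fin n) (Fin n) V) := by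
      apply map_val_injective
      rw [hTV]
      ext i j
      by_cases hij : i = j <;> simp [hij, Matrix.one_apply]
    -- reduction
    let κb : K V := IsLocalRing.residue V ⟨κ, hκV⟩
    have hred : ∑ q : H ⧸ L, redM MV q.out * Fb * redM MV q.out⁻¹ = κb • (1 : Matrix (Fin n) (Fin n) (K V)) := by
      have h1 : TV.map (IsLocalRing.residue V) = κb • (1 : Matrix (Fin n) (Fin n) (K V)) := by
        rw [hTV2]
        ext i j
        by_cases hij : i = j <;> simp [hij, Matrix.one_apply, κb]
      rw [← h1]
      ext i j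
      simp only [TV, Matrix.map_apply, Matrix.sum_apply]
      rw [map_sum]
      refine Finset.sum_congr rfl fun q _ => ?_
      have := Matrix.map_mul (L := MV q.out * F) (M := MV q.out⁻¹) (f := IsLocalRing.residue V)
      have h3 := Matrix.map_mul (L := MV q.out) (M := F) (f := IsLocalRing.residue V)
      have h4 := congrFun (congrFun this i) j
      rw [h3] at h4
      exact h4.symm
    -- the scalar is nonzero
    have hκb : κb ≠ 0 := by
      intro h0
      rw [h0, zero_smul] at hred
      have h1 := congrArg Matrix.trace hred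
      rw [Matrix.trace_sum, Matrix.trace_zero] at h1
      have h2 : ∀ q : H ⧸ L, Matrix.trace (redM MV q.out * Fb * redM MV q.out⁻¹) = 1 := by
        intro q
        rw [Matrix.trace_mul_comm, ← mul_assoc, ← h.redM_mul, inv_mul_cancel, h.redM_one, one_mul]
        rw [Matrix.trace]
        simp only [Matrix.diag_apply, hFb]
        rw [Finset.sum_eq_single i₀]
        · simp [hi₀]
        · intro j _ hj
          simp [hj]
        · simp
      simp only [h2, Finset.sum_const, Finset.card_univ, nsmul_eq_mul, mul_one] at h1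
      apply hind
      rw [Subgroup.index_eq_card, Nat.card_eq_fintype_card]
      exact h1
    apply Subrepresentation.toSubmodule_injective
    change X.toSubmodule = (⊤ : Submodule (K V) (Fin n → K V))
    rw [eq_top_iff]
    intro v _
    have h1 : κb • v = (∑ q : H ⧸ L, redM MV q.out * Fb * redM MV q.out⁻¹) *ᵥ v := by
      rw [hred, Matrix.smul_mulVec, Matrix.one_mulVec]
    have h2 : κb • v ∈ X.toSubmodule := by
      rw [h1, Matrix.sum_mulVec]
      apply Submodule.sum_mem
      intro q _
      rw [← Matrix.mulVec_mulVec, ← Matrix.mulVec_mulVec, hFbv, ]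
      have h3 := X.apply_mem_toSubmodule q.out
        (X.toSubmodule.smul_mem ((redM MV q.out⁻¹ *ᵥ v) i₀ * (w i₀)⁻¹) hwX)
      exact h3
    have h3 := X.toSubmodule.smul_mem κb⁻¹ h2
    rwa [smul_smul, inv_mul_cancel₀ hκb, one_smul] at h3
  have hne : (⊥ : Subrepresentation (redRep h)) ≠ ⊤ := by
    intro h0
    have h1 := congrArg Subrepresentation.toSubmodule h0
    have h2 : (⊥ : Submodule (K V) (Fin n → K V)) = ⊤ := h1
    haveI : Nonempty (Fin n) := ⟨⟨0, hn⟩⟩
    exact bot_ne_top h2
  exact { exists_pair_ne := ⟨⊥, ⊤, hne⟩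
          eq_bot_or_eq_top := fun X => by
            by_cases h0 : X = ⊥
            · exact Or.inl h0
            · exact Or.inr (hmain X h0) }

end Cfsg.Agent.Lib.D1.Reduce
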