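import Cfsg.Agent.Lib.ModTI.Integral
import Cfsg.Agent.Lib.Blocks.Local

/-!
# The residue field of a valuation subring of `ℂ` dominating the local ring at `M`
-/

set_option autoImplicit false

namespace Cfsg.Agent.Lib.D1.Res

open Cfsg Cfsg.Agent.Lib.Blocks.Local
open scoped BigOperators Polynomial

variable (V : ValuationSubring ℂ)

/-- The residue field. -/
abbrev K : Type := IsLocalRing.ResidueField V

open Classical in
/-- The reduction map on complex numbers (junk outside `V`). -/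
noncomputable def red (z : ℂ) : K V := if h : z ∈ V then IsLocalRing.residue V ⟨z, h⟩ else 0

variable {V}

theorem red_of_mem {z : ℂ} (h : z ∈ V) : red V z = IsLocalRing.residue V ⟨z, h⟩ := by
  simp [red, h]

theorem red_coe (z : V) : red V (z : ℂ) = IsLocalRing.residue V z := by
  rw [red_of_mem z.2]

theorem red_zero : red V 0 = 0 := by
  rw [red_of_mem V.zero_mem]
  exact map_zero _

theorem red_one : red V 1 = 1 := by
  rw [red_of_mem V.one_mem]
  exact map_one _

theorem red_add {z w : ℂ} (hz : z ∈ V) (hw : w ∈ V) : red V (z + w) = red V z + red V w := by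
  rw [red_of_mem hz, red_of_mem hw, red_of_mem (V.add_mem _ _ hz hw), ← map_add]
  rfl

theorem red_mul {z w : ℂ} (hz : z ∈ V) (hw : w ∈ V) : red V (z * w) = red V z * red V w := by
  rw [red_of_mem hz, red_of_mem hw, red_of_mem (V.mul_mem _ _ hz hw), ← map_mul]
  rfl

theorem red_neg {z : ℂ} (hz : z ∈ V) : red V (-z) = -red V z := by
  rw [red_of_mem hz, red_of_mem (V.neg_mem _ hz), ← map_neg]
  rfl

theorem red_sub {z w : ℂ} (hz : z ∈ V) (hw : w ∈ V) : red V (z - w) = red V z - red V w := by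
  rw [sub_eq_add_neg, red_add hz (V.neg_mem _ hw), red_neg hw, sub_eq_add_neg]

theorem sum_mem' {ι : Type*} (s : Finset ι) (f : ι → ℂ) (h : ∀ i ∈ s, f i ∈ V) :
    ∑ i ∈ s, f i ∈ V :=
  V.toSubring.sum_mem h

theorem red_sum {ι : Type*} (s : Finset ι) (f : ι → ℂ) (h : ∀ i ∈ s, f i ∈ V) :
    red V (∑ i ∈ s, f i) = ∑ i ∈ s, red V (f i) := by
  classical
  induction s using Finset.induction_on with
  | empty => simp [red_zero]
  | insert a s ha ih =>
    rw [Finset.sum_insert ha, Finset.sum_insert ha,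
      red_add (h a (Finset.mem_insert_self _ _))
        (sum_mem' s f fun i hi => h i (Finset.mem_insert_of_mem hi)),
      ih fun i hi => h i (Finset.mem_insert_of_mem hi)]

theorem natCast_mem (n : ℕ) : (n : ℂ) ∈ V := by
  have : ((n : V) : ℂ) = n := by simp
  rw [← this]
  exact ((n : V)).2

theorem intCast_mem (n : ℤ) : (n : ℂ) ∈ V := by
  have : ((n : V) : ℂ) = n := by simp
  rw [← this]
  exact ((n : V)).2

theorem red_natCast (n : ℕ) : red V (n : ℂ) = n := by
  rw [red_of_mem (natCast_mem n)]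
  have : (⟨(n : ℂ), natCast_mem n⟩ : V) = (n : V) := by
    apply Subtype.ext
    simp
  rw [this, map_natCast]

theorem red_intCast (n : ℤ) : red V (n : ℂ) = n := by
  rw [red_of_mem (intCast_mem n)]
  have : (⟨(n : ℂ), intCast_mem n⟩ : V) = (n : V) := by
    apply Subtype.ext
    simp
  rw [this, map_intCast]

theorem red_eq_zero_iff {z : ℂ} (hz : z ∈ V) : red V z = 0 ↔ z ∈ V.nonunits := by
  rw [red_of_mem hz, IsLocalRing.residue_eq_zero_iff, ValuationSubring.mem_nonunits_iff_exists_mem_maximalIdeal]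
  constructor
  · intro h
    exact ⟨hz, h⟩
  · rintro ⟨_, h⟩
    exact h

theorem red_surj (c : K V) : ∃ z ∈ V, red V z = c := by
  obtain ⟨z, rfl⟩ := IsLocalRing.residue_surjective c
  exact ⟨z, z.2, red_coe z⟩

theorem nonunits_le {z : ℂ} (h : z ∈ V.nonunits) : z ∈ V :=
  (ValuationSubring.mem_nonunits_iff_exists_mem_maximalIdeal.mp h).1

theorem mul_mem_nonunits {z w : ℂ} (hz : z ∈ V) (hw : w ∈ V.nonunits) : z * w ∈ V.nonunits := by
  rw [← red_eq_zero_iff (V.mul_mem _ _ hz (nonunits_le hw)), red_mul hz (nonunits_le hw),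
    (red_eq_zero_iff (nonunits_le hw)).mpr hw, mul_zero]

theorem add_mem_nonunits {z w : ℂ} (hz : z ∈ V.nonunits) (hw : w ∈ V.nonunits) :
    z + w ∈ V.nonunits := by
  rw [← red_eq_zero_iff (V.add_mem _ _ (nonunits_le hz) (nonunits_le hw)),
    red_add (nonunits_le hz) (nonunits_le hw), (red_eq_zero_iff (nonunits_le hz)).mpr hz,
    (red_eq_zero_iff (nonunits_le hw)).mpr hw, add_zero]

theorem inv_mem_of_not_nonunits {z : ℂ} (hz : z ∈ V) (h : z ∉ V.nonunits) : z⁻¹ ∈ V := by
  by_contra hc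
  apply h
  have h1 := (V.mem_or_inv_mem z⁻¹).resolve_left hc
  rw [ValuationSubring.mem_nonunits_iff] at *
  rw [← V.valuation_le_one_iff] at hz hc
  have h2 : V.valuation z⁻¹ > 1 := not_le.mp hc
  rw [map_inv₀] at h2
  have h3 := (one_lt_inv₀ (zero_lt_iff.mpr (by
    intro h0
    rw [h0] at h2
    simp at h2))).mp h2
  exact h3

/-- `V` is algebraically closed in `ℂ`: the residue field is algebraically closed. -/
instance isAlgClosed_K : IsAlgClosed (K V) := by
  apply IsAlgClosed.of_exists_root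
  intro f hf hirr
  have hdeg : 0 < f.natDegree := hirr.natDegree_pos
  obtain ⟨q, hq1, hq2, hq3⟩ := Polynomial.lifts_and_natDegree_eq_and_monic
    ((Polynomial.mem_lifts f).mpr (Polynomial.map_surjective _ IsLocalRing.residue_surjective f)) hf
  have hdq : (q.map (algebraMap V ℂ)).degree ≠ 0 := by
    rw [Polynomial.degree_map_eq_of_injective (f := algebraMap V ℂ) Subtype.val_injective]
    intro h
    have h0 : q.natDegree = 0 := by
      rw [Polynomial.natDegree, h]
      rfl
    omega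
  obtain ⟨z, hz⟩ := IsAlgClosed.exists_root _ hdq
  have hint : IsIntegral V z := ⟨q, hq3, by
    rw [Polynomial.IsRoot.def, Polynomial.eval_map] at hz
    exact hz⟩
  have hzV : z ∈ V := by
    have := (IsIntegrallyClosed.isIntegral_iff (R := V) (K := ℂ)).mp hint
    obtain ⟨y, rfl⟩ := this
    exact y.2
  refine ⟨IsLocalRing.residue V ⟨z, hzV⟩, ?_⟩
  rw [← hq1, Polynomial.eval_map, Polynomial.eval₂_at_apply]
  have h1 : q.eval (⟨z, hzV⟩ : V) = 0 := by
    apply Subtype.val_injective
    have h2 := Polynomial.eval₂_at_apply (p := q) (algebraMap V ℂ) (⟨z, hzV⟩ : V)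
    rw [Polynomial.IsRoot.def, Polynomial.eval_map] at hz
    have h3 : q.eval₂ (algebraMap V ℂ) ((algebraMap V ℂ) ⟨z, hzV⟩) = 0 := hz
    rw [h3] at h2
    exact h2.symm
  rw [h1, map_zero]

/-- The residue characteristic. -/
theorem charP_K {p : ℕ} (hp : p.Prime) (hpV : (p : ℂ) ∈ V.nonunits) : CharP (K V) p := by
  haveI : Fact p.Prime := ⟨hp⟩
  rw [CharP.charP_iff_prime_eq_zero hp]
  have h := (red_eq_zero_iff (natCast_mem p)).mpr hpV
  rwa [red_natCast] at h

/-- Existence of a valuation subring dominating the local ring at `M`. -/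
theorem exists_val {M : Ideal AlgInt} {p : ℕ} (hM : IsPModular p M) :
    ∃ V : ValuationSubring ℂ, (∀ z, MemLocalRing M z → z ∈ V) ∧
      (∀ z, MemLocalIdeal M z → z ∈ V.nonunits) ∧ (p : ℂ) ∈ V.nonunits := by
  have hmax := hM.2.1
  let A : Subring ℂ := AlgInt.toSubring
  have hI : M ≠ ⊤ := hmax.ne_top
  obtain ⟨V, hAV, hV⟩ := Ideal.image_subset_nonunits_valuationSubring (A := A) M hI
  have hA : ∀ a : AlgInt, (a : ℂ) ∈ V := fun a => hAV a.2
  have hMV : ∀ a ∈ M, (a : ℂ) ∈ V.nonunits := fun a ha => hV ⟨a, ha, rfl⟩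
  have hunit : ∀ b : AlgInt, b ∉ M → (b : ℂ) ∉ V.nonunits := by
    intro b hb hbn
    obtain ⟨c, m, hm, h1⟩ := hmax.exists_inv hb
    have h2 : ((c * b + m : AlgInt) : ℂ) = 1 := by
      rw [h1]
      rfl
    push_cast at h2
    have h3 : (1 : ℂ) ∈ V.nonunits := by
      rw [← h2]
      exact add_mem_nonunits (mul_mem_nonunits (hA c) hbn) (hMV m hm)
    have h4 := (red_eq_zero_iff V.one_mem).mpr h3
    rw [red_one] at h4
    exact one_ne_zero h4
  have hbne : ∀ b : AlgInt, b ∉ M → (b : ℂ) ≠ 0 := by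
    intro b hb h0
    apply hb
    have : b = 0 := Subtype.ext h0
    rw [this]
    exact M.zero_mem
  refine ⟨V, ?_, ?_, ?_⟩
  · rintro z ⟨a, b, hb, rfl⟩
    rw [div_eq_mul_inv]
    exact V.mul_mem _ _ (hA a) (inv_mem_of_not_nonunits (hA b) (hunit b hb))
  · rintro z ⟨a, b, ha, hb, rfl⟩
    rw [div_eq_mul_inv, mul_comm]
    exact mul_mem_nonunits (inv_mem_of_not_nonunits (hA b) (hunit b hb)) (hMV a ha)
  · exact_mod_cast hMV _ hM.2.2

end Cfsg.Agent.Lib.D1.Res
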