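import Cfsg.Agent.Lib.D1.Modl
import Cfsg.Agent.Lib.ModRep.Span

/-!
# Trace functions of simple modules in a block are combinations of reductions of its characters
-/

set_option autoImplicit false

namespace Cfsg.Agent.Lib.D1.Span

open Cfsg Module MonoidAlgebra Cfsg.Agent.Lib.D1.Res Cfsg.Agent.Lib.D1.Simple Cfsg.Agent.Lib.D1.Modl
open Cfsg.Agent.Lib.ModRep.Span Cfsg.Agent.Lib.Blocks.Local Cfsg.Agent.Lib.Blocks.Central
open scoped BigOperators

universe u v

variable {G : Type u} [Group G] [Fintype G] {V : ValuationSubring ℂ}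

/-- The reduction map on algebraic integers. -/
noncomputable def redA (V : ValuationSubring ℂ) : AlgInt →+* K V where
  toFun a := red V (a : ℂ)
  map_one' := red_one
  map_zero' := red_zero
  map_mul' a b := red_mul (mem_of_isIntegral a.2) (mem_of_isIntegral b.2)
  map_add' a b := red_add (mem_of_isIntegral a.2) (mem_of_isIntegral b.2)

theorem redA_apply (a : AlgInt) : redA V a = red V (a : ℂ) := rfl

theorem bar_redA (χ : IrrCharacter G) (g : G) : bar (redA V) χ g = red V ((χ : G → ℂ) g) := rfl

theorem redA_cc (χ : IrrCharacter G) (g : G) :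
    redA V (cc χ g) = red V (centralChar (χ : G → ℂ) g) := rfl

section Eig

variable {k : Type v} [Field k] (r : AlgInt →+* k)

open scoped Classical in
/-- Eigenvectors. -/
theorem eq_zero_of_eig' [Fintype (IrrCharacter G)] (lam : G → k) (S : Finset (IrrCharacter G))
    (hS : ∀ χ ∈ S, ∃ a, r (cc χ a) ≠ lam a) :
    ∀ (d : IrrCharacter G → k) (v : G → k), (∀ g, v g = ∑ χ ∈ S, d χ * bar r χ g) →
      (∀ a g, ∑ h ∈ Finset.univ.filter (IsConj a), v (h * g) = lam a * v g) → v = 0 := by
  induction S using Finset.induction_on with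
  | empty =>
    intro d v hv _
    funext g
    rw [hv g]
    simp
  | insert χ₁ S' hχ₁ ih =>
    intro d v hv heig
    obtain ⟨a, ha⟩ := hS χ₁ (Finset.mem_insert_self _ _)
    set c : k := lam a - r (cc χ₁ a) with hc
    have hc0 : c ≠ 0 := sub_ne_zero.mpr (Ne.symm ha)
    let v' : G → k := fun g => c * v g
    have hv' : ∀ g, v' g = ∑ χ ∈ S', (d χ * (r (cc χ a) - r (cc χ₁ a))) * bar r χ g := by
      intro g
      have h1 := heig a g
      have h2 : ∑ h ∈ Finset.univ.filter (IsConj a), v (h * g) =
          ∑ χ ∈ insert χ₁ S', d χ * (r (cc χ a) * bar r χ g) := by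
        simp_rw [hv]
        rw [Finset.sum_comm]
        refine Finset.sum_congr rfl fun χ _ => ?_
        rw [← Finset.mul_sum, sum_bar]
      rw [h2] at h1
      show c * v g = _
      rw [hc, sub_mul, ← h1, hv g, Finset.mul_sum, ← Finset.sum_sub_distrib]
      rw [Finset.sum_insert hχ₁]
      have h3 : d χ₁ * (r (cc χ₁ a) * bar r χ₁ g) - r (cc χ₁ a) * (d χ₁ * bar r χ₁ g) = 0 := by
        ring
      rw [h3, zero_add]
      refine Finset.sum_congr rfl fun χ _ => ?_
      ring
    have hv'0 : v' = 0 := by
      refine ih (fun χ hχ => hS χ (Finset.mem_insert_of_mem hχ))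
        (fun χ => d χ * (r (cc χ a) - r (cc χ₁ a))) v' hv' ?_
      intro a' g
      show ∑ h ∈ Finset.univ.filter (IsConj a'), c * v (h * g) = _ * (c * v g)
      rw [← Finset.mul_sum, heig a' g]
      ring
    funext g
    have h1 := congrFun hv'0 g
    have h2 : c * v g = 0 := h1
    exact (mul_eq_zero.mp h2).resolve_left hc0

open scoped Classical in
/-- A class function constant on sections and with central character `lam` is a combination of
reductions of characters with central character `lam`. -/
theorem exists_coeffs_eig [Fintype (IrrCharacter G)] {M : Ideal AlgInt} {p : ℕ} [Fact p.Prime]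
    (hM : IsPModular p M) (hred : ∀ a ∈ M, r a = 0) (hm : ∀ n : ℕ, ¬ p ∣ n → (n : k) ≠ 0) (τ : G → k)
    (hcl : ∀ g h, IsConj g h → τ g = τ h)
    (hsec : ∀ a b, Commute a b → ∀ n : ℕ, b ^ p ^ n = 1 → τ (a * b) = τ a)
    (lam : G → k)
    (heig : ∀ a g, ∑ h ∈ Finset.univ.filter (IsConj a), τ (h * g) = lam a * τ g) :
    ∃ c : IrrCharacter G → k, ∀ g, τ g =
      ∑ χ ∈ Finset.univ.filter (fun χ : IrrCharacter G => ∀ a, r (cc χ a) = lam a), c χ * bar r χ g := by
  obtain ⟨c, hc⟩ := exists_coeffs (p := p) r hM hred hm τ hcl hsec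
  refine ⟨c, ?_⟩
  let A := Finset.univ.filter (fun χ : IrrCharacter G => ∀ a, r (cc χ a) = lam a)
  let v : G → k := fun g => τ g - ∑ χ ∈ A, c χ * bar r χ g
  have hv : ∀ g, v g = ∑ χ ∈ Aᶜ, c χ * bar r χ g := by
    intro g
    show τ g - ∑ χ ∈ A, c χ * bar r χ g = _
    rw [hc g, ← Finset.sum_add_sum_compl A (fun χ => c χ * bar r χ g)]
    ring
  have hv0 : v = 0 := by
    refine eq_zero_of_eig' r lam Aᶜ (fun χ hχ => ?_) c v hv ?_
    · rw [Finset.mem_compl] at hχ
      by_contra hcon
      push Not at hcon
      exact hχ (Finset.mem_filter.mpr ⟨Finset.mem_univ _, hcon⟩)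
    · intro a g
      show ∑ h ∈ Finset.univ.filter (IsConj a), (τ (h * g) - ∑ χ ∈ A, c χ * bar r χ (h * g)) =
        _ * (τ g - ∑ χ ∈ A, c χ * bar r χ g)
      rw [Finset.sum_sub_distrib, heig a g, mul_sub]
      congr 1
      rw [Finset.sum_comm, Finset.mul_sum]
      refine Finset.sum_congr rfl fun χ hχ => ?_
      rw [← Finset.mul_sum, sum_bar, (Finset.mem_filter.mp hχ).2 a]
      ring
  intro g
  have h1 := congrFun hv0 g
  exact sub_eq_zero.mp h1

end Eig

section Block

variable {k : Type v} [Field k] {S : Type*} [AddCommGroup S] [Module k S] [Nontrivial S]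
  {M : Ideal AlgInt} [M.IsPrime]

open scoped Classical in
/-- A simple module on which the idempotent acts as one, and class sums by `lam`: the central
characters with eigenvalues `lam` lie in the block. -/
theorem mem_of_sum_eq_one (hV : ∀ z, MemLocalRing M z → z ∈ V) {S : Type*} [AddCommGroup S] [Module (K V) S]
    [Nontrivial S] {B : Set (IrrCharacter G)} (hB : IsPBlock M B) (ρ : Representation (K V) G S)
    (heOp : ∑ g : G, red V (blockCoeff B g) • ρ g = 1) (lam : G → K V)
    (hlam : ∀ a, ∑ h ∈ Finset.univ.filter (IsConj a), ρ h = lam a • (1 : End (K V) S))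
    {χ : IrrCharacter G} (hχ : ∀ a, redA V (cc χ a) = lam a) : χ ∈ B := by
  classical
  haveI := Cfsg.Agent.Lib.Char.Ortho.finite_irrCharacter (G := G)
  letI := Fintype.ofFinite (IrrCharacter G)
  letI : Fintype (ConjClasses G) := Fintype.ofFinite _
  have hb : ∀ g, blockCoeff B g ∈ V := fun g => hV _ (memLocalRing_blockCoeff hB g)
  have hsum : ∑ C : ConjClasses G, red V (blockCoeff B C.out) * lam C.out = 1 := by
    have h1 : ∑ g : G, red V (blockCoeff B g) • ρ g =
        ∑ C : ConjClasses G, ∑ h ∈ Finset.univ.filter (IsConj C.out), red V (blockCoeff B h) • ρ h := by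
      rw [← Finset.sum_fiberwise Finset.univ (fun g : G => ConjClasses.mk g)]
      refine Finset.sum_congr rfl fun C _ => ?_
      apply Finset.sum_congr
      · ext g
        simp only [Finset.mem_filter, Finset.mem_univ, true_and]
        constructor
        · rintro rfl
          exact isConj_out g
        · intro h
          rw [← out_isConj C]
          exact (ConjClasses.mk_eq_mk_iff_isConj.mpr h).symm
      · intro _ _
        rfl
    have h2 : ∀ C : ConjClasses G, ∑ h ∈ Finset.univ.filter (IsConj C.out), red V (blockCoeff B h) • ρ h =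
        (red V (blockCoeff B C.out) * lam C.out) • (1 : End (K V) S) := by
      intro C
      have h3 : ∀ h ∈ Finset.univ.filter (IsConj C.out), red V (blockCoeff B h) • ρ h =
          red V (blockCoeff B C.out) • ρ h := by
        intro h hh
        have hh' := (Finset.mem_filter.mp hh).2
        obtain ⟨c, rfl⟩ := isConj_iff.mp hh'
        rw [blockCoeff_conj_invariant]
      rw [Finset.sum_congr rfl h3, ← Finset.smul_sum, hlam, smul_smul]
    rw [h1, Finset.sum_congr rfl (fun C _ => h2 C), ← Finset.sum_smul] at heOp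
    by_contra hne
    have h4 : ((∑ C : ConjClasses G, red V (blockCoeff B C.out) * lam C.out) - 1) • (1 : End (K V) S) = 0 := by
      rw [sub_smul, heOp, one_smul, sub_self]
    rcases smul_eq_zero.mp h4 with h5 | h5
    · exact hne (sub_eq_zero.mp h5)
    · exact one_ne_zero h5
  have hom := omegaHom_eq_sum_classes χ (idem B)
  rw [omegaHom_idem] at hom
  have hcc : ∀ a, centralChar (χ : G → ℂ) a ∈ V := fun a => mem_of_isIntegral (isIntegral_centralChar χ a)
  have hred := congrArg (red V) hom
  simp only [coeff_idem] at hred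
  have h7 : red V (∑ C : ConjClasses G, blockCoeff B C.out * centralChar (χ : G → ℂ) C.out) =
      ∑ C : ConjClasses G, red V (blockCoeff B C.out * centralChar (χ : G → ℂ) C.out) :=
    red_sum _ (fun C : ConjClasses G => blockCoeff B C.out * centralChar (χ : G → ℂ) C.out)
      (fun C _ => V.mul_mem _ _ (hb _) (hcc _))
  replace hred := hred.trans h7
  have h6 : ∀ C : ConjClasses G, red V (blockCoeff B C.out * centralChar (χ : G → ℂ) C.out) =
      red V (blockCoeff B C.out) * lam C.out := by
    intro C
    rw [red_mul (hb _) (hcc _), ← hχ, redA_cc]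
  rw [Finset.sum_congr rfl (fun C _ => h6 C), hsum] at hred
  by_contra hnot
  rw [if_neg hnot, red_zero] at hred
  exact one_ne_zero hred.symm

end Block

end Cfsg.Agent.Lib.D1.Span
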